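import Cfsg.Agent.BZ.L.TA.Defs
import Cfsg.Agent.BZ.L.Cs

/-!
# BZ / L / TA : the lattice data of a frame (helper60)

`DatA.car` : the symmetriser; `DatA.Wa` : the Weyl group on the coweights; `boxDat : BoxDat`.
-/

set_option autoImplicit false
set_option linter.unusedSectionVars false

namespace Cfsg.Agent.BZ.TA

open Cfsg Cfsg.Agent.DL Cfsg.Agent.DL.PP Cfsg.Agent.HZ.L.Reg Matrix Cfsg.Agent.Tits.Roots Cfsg.Agent.BZ.L
  Cfsg.Agent.ChevalleyStructure.CoxeterGeom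

namespace DatA

section comp

variable {I : Type} [Fintype I] [DecidableEq I] {C : Matrix I I ℤ} {d : I → ℤ}

theorem ne_symm (h : Car C d) {i j : I} (e : C i j ≠ 0) : C j i ≠ 0 := fun e' => by
  have h1 := h.sym i j
  rw [e', mul_zero] at h1
  exact mul_ne_zero (h.dpos j).ne' e h1

theorem cp_symm (h : Car C d) {i j : I} (e : Cp C i j) : Cp C j i := by
  induction e with
  | refl => exact .refl
  | tail _ e ih => exact .head (ne_symm h e) ih

theorem su_cp {i j : I} {v : I → ℤ} (h : Su C i v) (e : v j ≠ 0) : Cp C i j := by_contra fun e' => e (h j e')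

theorem su_of {i j : I} {v : I → ℤ} (h : Su C i v) (e : Cp C j i) : Su C j v := fun m hm => h m fun e' => hm (e.trans e')

theorem su_row (i : I) : Su C i (C i) := fun _ hm => by_contra fun e => hm (.single e)

theorem exists_ne {u v : I → ℤ} (h : u ⬝ᵥ v ≠ 0) : ∃ m, u m ≠ 0 ∧ v m ≠ 0 :=
  let ⟨m, _, e⟩ := Finset.exists_ne_zero_of_sum_ne_zero h
  ⟨m, mul_ne_zero_iff.1 e⟩

end comp

variable {p : ℕ} [Fact p.Prime] {k : Type} [Field k] [CharP k p] {Y : Type} [Group Y] {N : Type} [Fintype N]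
  [DecidableEq N] {ρ : Y →* GL N k} {F : MulAut Y} {G : Subgroup Y} [IsAlgClosed k] (X : Datum p ρ F G)

theorem sr_dot (i : X.I) (v : X.I → ℤ) : sr i ⬝ᵥ v = v i := single_one_dotProduct i v

theorem sr_vecMul {R : Type} (i : X.I) (A : Matrix X.I R ℤ) : sr i ᵥ* A = A i := single_one_vecMul i A

theorem Cm_apply (i j : X.I) : Cm X i j = X.A i j :=
  (X.pair i (sr j)).trans ((dotProduct_comm _ _).trans (sr_dot X j (X.A i)))

theorem dot_Cm (c : X.I → ℤ) (i : X.I) : c ⬝ᵥ Cm X i = pairing X.A i c :=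
  Finset.sum_congr rfl fun j _ => by rw [Cm_apply, mul_comm]

theorem Am_cw (i : X.I) : Am X *ᵥ X.cw i = Cm X i := rfl

theorem act_simple (i : X.I) (c : X.I → ℤ) : X.act (X.cs.simple i) c = c - (c ⬝ᵥ Cm X i) • sr i := by
  rw [dot_Cm]
  exact rep_simple_eq _ _ i c

theorem exists_pair {a : X.I → ℤ} (ha : a ≠ 0) : ∃ m, a m ≠ 0 ∧ a ⬝ᵥ Cm X m ≠ 0 := by
  have := Fintype.ofFinite X.W
  have h1 := (form_pos X.cs X.h ha).ne'
  rw [form_eq_sum] at h1
  obtain ⟨m, -, e⟩ := Finset.exists_ne_zero_of_sum_ne_zero h1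
  refine ⟨m, left_ne_zero_of_mul e, fun e' => right_ne_zero_of_mul e ?_⟩
  have h2 := two_form X.cs X.h m a
  rw [← dot_Cm, e'] at h2
  omega

theorem det_Cm : (Cm X).det ≠ 0 := fun h => by
  obtain ⟨a, ha, e⟩ := exists_mulVec_eq_zero_iff.2 h
  obtain ⟨m, -, e'⟩ := exists_pair X ha
  exact e' ((dotProduct_comm _ _).trans (congrFun e m))

/-- the invariant form on the coweights -/
noncomputable def fm (u v : X.I → ℤ) : ℤ := ∑ c ∈ Phi X, (c ⬝ᵥ u) * (c ⬝ᵥ v)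

/-- the symmetriser -/
noncomputable def dd (i : X.I) : ℤ := fm X (Cm X i) (Cm X i)

theorem fm_comm (u v : X.I → ℤ) : fm X u v = fm X v u := Finset.sum_congr rfl fun _ _ => mul_comm _ _

theorem fm_pos {u : X.I → ℤ} (h : u ≠ 0) : 0 < fm X u u := by
  obtain ⟨i, hi⟩ := Function.ne_iff.1 h
  exact Finset.sum_pos' (fun _ _ => mul_self_nonneg _)
    ⟨sr i, (mem_Phi X).2 (isRoot_sr _ _ i), by rw [sr_dot]; exact mul_self_pos.2 hi⟩

theorem two_fm (i : X.I) (v : X.I → ℤ) : dd X i * v i = 2 * fm X (Cm X i) v := by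
  have h1 := sum_act X (X.cs.simple i) fun c => (c ⬝ᵥ Cm X i) * (c ⬝ᵥ v)
  have h2 : ∀ c, (X.act (X.cs.simple i) c ⬝ᵥ Cm X i) * (X.act (X.cs.simple i) c ⬝ᵥ v) =
      (c ⬝ᵥ Cm X i) * (c ⬝ᵥ Cm X i) * v i - (c ⬝ᵥ Cm X i) * (c ⬝ᵥ v) := fun c => by
    rw [act_simple, sub_dotProduct, sub_dotProduct, smul_dotProduct, smul_dotProduct, sr_dot, sr_dot, Cm_apply, X.h.diag,
      smul_eq_mul, smul_eq_mul]
    ring
  rw [Finset.sum_congr rfl fun c _ => h2 c, Finset.sum_sub_distrib, ← Finset.sum_mul] at h1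
  rw [dd, fm, fm]
  linarith

theorem sum_fm (β v : X.I → ℤ) : ∑ i, β i * dd X i * v i = 2 * fm X (β ᵥ* Cm X) v := by
  rw [Finset.sum_congr rfl fun i _ => by rw [mul_assoc, two_fm, mul_left_comm, fm, Finset.mul_sum], ← Finset.mul_sum,
    Finset.sum_comm, fm]
  refine congrArg _ (Finset.sum_congr rfl fun c _ => ?_)
  rw [dotProduct_comm c (β ᵥ* _), ← dotProduct_mulVec, show β ⬝ᵥ Cm X *ᵥ c = ∑ i, β i * (Cm X i ⬝ᵥ c) from rfl,
    Finset.sum_mul]
  exact Finset.sum_congr rfl fun i _ => by rw [← mul_assoc, dotProduct_comm]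

theorem car : Car (Cm X) (dd X) where
  diag i := (Cm_apply X i i).trans (X.h.diag i)
  off i j h := (Cm_apply X i j).trans_le (cartan_nonpos X.h h)
  dpos i := fm_pos X fun e => two_ne_zero ((X.h.diag i).symm.trans ((Cm_apply X i i).symm.trans (congrFun e i)))
  sym i j := by rw [two_fm, two_fm, fm_comm]
  pos β h := by
    rw [sum_fm]
    exact mul_pos two_pos (fm_pos X fun e => h (eq_zero_of_vecMul_eq_zero (det_Cm X) e))

theorem W0_Am (w : X.W) : (Matrix.of fun i => X.act w⁻¹ (sr i)) * Am X = Am X * X.Wm w :=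
  Matrix.ext fun i => congrFun ((vecMul_Am X _).trans (X.wt_act' w (sr i)))

/-- the Weyl group on the coweights -/
noncomputable def Wa : X.W →* Matrix X.I X.I ℤ where
  toFun w := Matrix.of fun i => X.act w⁻¹ (sr i)
  map_one' := Am_cancel X (by rw [W0_Am, X.Wm_one, Matrix.one_mul, Matrix.mul_one])
  map_mul' v w := Am_cancel X (by
    rw [W0_Am, X.Wm_mul, Matrix.mul_assoc, W0_Am, ← Matrix.mul_assoc, ← Matrix.mul_assoc, W0_Am])

theorem Wa_Am (w : X.W) : Wa X w * Am X = Am X * X.Wm w := W0_Am X w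

theorem Wa_simple (j : X.I) (v : X.I → ℤ) : Wa X (X.cs.simple j) *ᵥ v = v - v j • Cm X j := funext fun i => by
  show X.act (X.cs.simple j)⁻¹ (sr i) ⬝ᵥ v = _
  rw [X.cs.inv_simple, act_simple, sub_dotProduct, smul_dotProduct, sr_dot, sr_dot, sr_dot, Pi.sub_apply, Pi.smul_apply,
    smul_eq_mul, smul_eq_mul, mul_comm]

theorem su_Wa (w : X.W) (i : X.I) (v : X.I → ℤ) (h : Su (Cm X) i v) : Su (Cm X) i (Wa X w *ᵥ v) := by
  induction w using X.cs.simple_induction_left with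
  | one => rwa [map_one, one_mulVec]
  | mul_simple_left w j ih =>
    intro m hm
    rw [map_mul, ← mulVec_mulVec, Wa_simple, Pi.sub_apply, ih m hm, Pi.smul_apply, zero_sub, neg_eq_zero, smul_eq_mul]
    by_contra e
    exact hm ((su_cp ih (left_ne_zero_of_mul e)).tail (right_ne_zero_of_mul e))

theorem wa_sub (w : X.W) (v : X.I → ℤ) : ∃ β, Wa X w *ᵥ v - v = β ᵥ* Cm X := by
  induction w using X.cs.simple_induction_left with
  | one => exact ⟨0, by rw [map_one, one_mulVec, sub_self, zero_vecMul]⟩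
  | mul_simple_left w j ih =>
    obtain ⟨β, h⟩ := ih
    exact ⟨β - (Wa X w *ᵥ v) j • sr j, by
      rw [map_mul, ← mulVec_mulVec, Wa_simple, sub_vecMul, smul_vecMul, sr_vecMul, ← h, sub_right_comm]⟩

theorem Am_cor (w : X.W) (x : X.I) : Am X *ᵥ X.cor (X.act w (sr x)) = Wa X w *ᵥ Cm X x := by
  rw [X.cor_act_sr, mulVec_mulVec, ← Wa_Am, ← mulVec_mulVec, Am_cw]

theorem su_act (w : X.W) (x : X.I) : Su (Cm X) x (X.act w (sr x)) := by
  induction w using X.cs.simple_induction_left with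
  | one =>
    intro m hm
    rw [show X.act 1 (sr x) = sr x from congrArg (· (sr x)) (map_one (rep X.cs X.h))]
    exact sr_ne fun e => hm (e ▸ .refl)
  | mul_simple_left w j ih =>
    intro m hm
    rw [CF.act_mul, act_simple, Pi.sub_apply, ih m hm, Pi.smul_apply, zero_sub, neg_eq_zero, smul_eq_mul]
    by_contra e
    obtain rfl : m = j := by_contra fun e' => right_ne_zero_of_mul e (sr_ne e')
    obtain ⟨y, h1, h2⟩ := exists_ne (left_ne_zero_of_mul e)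
    exact hm ((su_cp ih h1).tail (ne_symm (car X) h2))

variable {X}

/-- a root and its coroot lie in one component -/
theorem exists_su {b : X.I → ℤ} (hb : X.Rt b) : ∃ x, Su (Cm X) x b ∧ Su (Cm X) x (Am X *ᵥ X.cor b) := by
  obtain ⟨w, x, rfl⟩ := hb
  exact ⟨x, su_act X w x, (Am_cor X w x).symm ▸ su_Wa X w x _ (su_row x)⟩

theorem exists_cor {b : X.I → ℤ} (hb : X.Rt b) : ∃ β, Am X *ᵥ X.cor b = β ᵥ* Cm X := by
  obtain ⟨w, x, rfl⟩ := hb
  obtain ⟨β, h⟩ := wa_sub X w (Cm X x)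
  exact ⟨β + sr x, (Am_cor X w x).trans (by rw [add_vecMul, ← h, sr_vecMul, sub_add_cancel])⟩

section frob

variable {q : ℤ} {B : Matrix X.I X.I ℤ} (h0 : q ≠ 0) (hq : ∀ a, X.Rt a → (p : ℤ) ^ X.ex a = q) (hB : Qm X = q • B)
include h0 hq hB

theorem g_vecMul {b : X.I → ℤ} (hb : X.Rt b) : X.g b ᵥ* B = b := smul_right_injective _ h0 (by
  show q • _ = q • _
  rw [← vecMul_smul, ← hB, vecMul_Qm, X.ψ_g hb, hq b hb])

theorem B_row (i : X.I) : B *ᵥ Cm X i = Am X *ᵥ X.cor (X.g (sr i)) := smul_right_injective _ h0 (by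
  show q • _ = q • _
  rw [← smul_mulVec, ← hB, ← Am_cw, mulVec_mulVec, Qm_Am, ← mulVec_mulVec, ← X.cor_sr, X.Mx_cor (isRoot_sr _ _ i),
    hq _ (isRoot_sr _ _ i), mulVec_smul])

theorem fm_B (u v : X.I → ℤ) : fm X (B *ᵥ u) (B *ᵥ v) = fm X u v :=
  (Finset.sum_bij (fun c _ => X.g c) (fun _ hc => (mem_Phi X).2 (X.g_root _ ((mem_Phi X).1 hc)))
    (fun a ha b hb e => by
      rw [← g_vecMul h0 hq hB ((mem_Phi X).1 ha), ← g_vecMul h0 hq hB ((mem_Phi X).1 hb)]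
      exact congrArg (· ᵥ* B) e)
    (fun b hb => let ⟨a, h1, h2⟩ := X.g_surj ((mem_Phi X).1 hb); ⟨a, (mem_Phi X).2 h1, h2⟩)
    fun c hc => by rw [dotProduct_mulVec, dotProduct_mulVec, g_vecMul h0 hq hB ((mem_Phi X).1 hc)]).symm

theorem iso (β : X.I → ℤ) : ∃ β' : X.I → ℤ, B *ᵥ (β ᵥ* Cm X) = β' ᵥ* Cm X ∧
    ∀ v, ∑ i, β' i * dd X i * (B *ᵥ v) i = ∑ i, β i * dd X i * v i := by
  choose γ hγ using fun i => exists_cor (X.g_root _ (isRoot_sr X.cs X.h i))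
  have h1 : Matrix.of γ * Cm X = Cm X * Bᵀ := Matrix.ext fun i =>
    congrFun ((hγ i).symm.trans ((B_row h0 hq hB i).symm.trans (vecMul_transpose B _).symm))
  have h2 : B *ᵥ (β ᵥ* Cm X) = (β ᵥ* Matrix.of γ) ᵥ* Cm X := by
    rw [vecMul_vecMul, h1, ← vecMul_vecMul, vecMul_transpose]
  exact ⟨_, h2, fun v => by rw [sum_fm, sum_fm, ← h2, fm_B h0 hq hB]⟩

theorem comp (i : X.I) : ∃ j, ∀ v, Su (Cm X) i v → Su (Cm X) j (B *ᵥ v) := by
  have h1 := fun i => exists_su (X.g_root _ (isRoot_sr X.cs X.h i))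
  simp only [← B_row h0 hq hB] at h1
  obtain ⟨j, -, hj⟩ := h1 i
  have h2 : ∀ i', Cp (Cm X) i i' → Su (Cm X) j (B *ᵥ Cm X i') := fun i' e => by
    induction e with
    | refl => exact hj
    | @tail a b _ e ih =>
      obtain ⟨x, h2, h3⟩ := h1 b
      obtain ⟨m, h4, h5⟩ := exists_ne (u := X.g (sr b)) (v := B *ᵥ Cm X a) (by
        rwa [dotProduct_mulVec, g_vecMul h0 hq hB (isRoot_sr _ _ b), sr_dot])
      exact su_of h3 ((su_cp ih h5).trans (cp_symm (car X) (su_cp h2 h4)))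
  refine ⟨j, fun v hv m hm => by_contra fun e => hm ?_⟩
  obtain ⟨a, ha, h3⟩ := X.g_surj (isRoot_sr X.cs X.h m)
  have h4 : ∀ u, (B *ᵥ u) m = a ⬝ᵥ u := fun u => by
    rw [← sr_dot X m (B *ᵥ u), dotProduct_mulVec, ← h3, g_vecMul h0 hq hB ha]
  obtain ⟨x, h5, -⟩ := exists_su ha
  obtain ⟨y, h6, h7⟩ := exists_ne (h4 v ▸ e)
  obtain ⟨z, h8, h9⟩ := exists_pair X ha.ne_zero
  exact su_cp (h2 z (((su_cp hv h7).trans (cp_symm (car X) (su_cp h5 h6))).trans (su_cp h5 h8))) (h4 _ ▸ h9)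

end frob

end DatA

/-- **the lattice data** -/
theorem boxDat : BoxDat := by
  intro p _ k _ _ Y _ N _ _ ρ F G _ X q n c h
  have hq : ∀ a, X.Rt a → (p : ℤ) ^ X.ex a = q := fun a ha => by rw [← h.ex a ha, Nat.cast_pow]
  rcases isEmpty_or_nonempty X.I with hI | ⟨⟨i⟩⟩
  · exact ⟨_, 1, DatA.Wa X, DatA.car X, ⟨⟨1, one_pos, one_pow 1⟩, fun β => ⟨β, one_mulVec _, fun v => by rw [one_mulVec]⟩⟩,
      one_pow n, Subsingleton.elim _ _, isEmptyElim, DatA.Wa_Am X, DatA.su_Wa X, DatA.wa_sub X⟩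
  have h0 : (q : ℤ) ≠ 0 := hq _ (isRoot_sr _ _ i) ▸ pow_ne_zero _ (Nat.cast_ne_zero.2 (Fact.out : p.Prime).ne_zero)
  choose a h1 h2 using fun i => X.g_surj (isRoot_sr X.cs X.h i)
  have h3 : Qm X = (q : ℤ) • Matrix.of a := Matrix.ext fun i => congrFun (by
    show X.ψ (sr i) = (q : ℤ) • a i
    rw [← h2, X.ψ_g (h1 i), hq _ (h1 i)])
  obtain ⟨A, hA, h4⟩ := h.mat 1
  rw [X.Wm_one, one_mul] at hA
  have h5 : Matrix.of a ^ n = 1 := smul_right_injective _ (pow_ne_zero n h0) (by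
    show (q : ℤ) ^ n • _ = (q : ℤ) ^ n • _
    rw [← smul_pow, ← h3]
    exact Qm_pow X (by rw [hA, smul_pow, h4]))
  exact ⟨_, _, DatA.Wa X, DatA.car X, ⟨⟨n, h.n0, h5⟩, DatA.iso h0 hq h3⟩, h5, h3, DatA.comp h0 hq h3, DatA.Wa_Am X,
    DatA.su_Wa X, DatA.wa_sub X⟩

end Cfsg.Agent.BZ.TA
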