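import Cfsg.Agent.BZ.L.TA.Defs
import Cfsg.Agent.BZ.L.Cs

/-!
# BZ / L / TA : the lattice lemma applied to a torus (helper27)

`kd_cen` : an element which normalises the fixed `l`-elements of the torus gives the data `Kd`.
-/

set_option autoImplicit false
set_option linter.unusedSectionVars false

namespace Cfsg.Agent.BZ.TA

open Cfsg Subgroup Cfsg.Agent.KM Cfsg.Agent.DL Cfsg.Agent.KM.Ht Cfsg.Agent.KM.Tor
  Cfsg.Agent.BZ.L Cfsg.Agent.DL.PP Cfsg.Agent.HZ.L.Reg Cfsg.Agent.Nodes.Reps Matrix Cfsg.Agent.Tits.Roots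
open Cfsg.Agent.TO.X.Cn (cl co stab WZ mem_WZ rf_mem_WZ exists_cl wt_cl cl_add cl_sr exists_exp χ_pow)

namespace Gk

variable {p : ℕ} [Fact p.Prime] {k : Type} [Field k] [CharP k p] {Y : Type} [Group Y] {N : Type} [Fintype N]
  [DecidableEq N] {ρ : Y →* GL N k} {F : MulAut Y} {G : Subgroup Y} [IsAlgClosed k] {X : Datum p ρ F G}

theorem sr_dot {I : Type} [Fintype I] [DecidableEq I] (i : I) (v : I → ℤ) : sr i ⬝ᵥ v = v i := by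
  rw [sr, single_dotProduct, one_mul]

theorem Dz.dot {I : Type} [Fintype I] {n : ℤ} {v : I → ℤ} (h : Dz n v) (a : I → ℤ) : n ∣ a ⬝ᵥ v :=
  Finset.dvd_sum fun i _ => (h i).mul_left _

theorem Dz.ex {I : Type} {n : ℤ} {v : I → ℤ} (h : Dz n v) : ∃ μ : I → ℤ, v = n • μ := by
  choose μ hμ using h
  exact ⟨μ, funext hμ⟩

theorem dz_smul {I : Type} (n : ℤ) (μ : I → ℤ) : Dz n (n • μ) := fun _ => dvd_mul_right _ _

theorem dot_Am (a : X.I → ℤ) (u : X.R → ℤ) : a ⬝ᵥ Am X *ᵥ u = X.wt a ⬝ᵥ u := by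
  rw [dotProduct_mulVec, vecMul_Am]

theorem Am_cl (β : X.I → ℤ) : Am X *ᵥ cl X β = β ᵥ* Cm X := funext fun j => by
  rw [← sr_dot j (Am X *ᵥ _), dot_Am, cl, dotProduct_sum]
  exact Finset.sum_congr rfl fun i _ => by rw [dotProduct_smul, smul_eq_mul]; rfl

theorem dot_Cm (a β : X.I → ℤ) : a ⬝ᵥ β ᵥ* Cm X = co X β a := by rw [← Am_cl, dot_Am, wt_cl]

theorem xp_one {t : Y} {ζ : kˣ} {v : X.I → ℤ} (h : Xp X t ζ v) (a : X.I → ℤ) :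
    X.χ a t = 1 ↔ (orderOf ζ : ℤ) ∣ a ⬝ᵥ v := by
  rw [h a, Units.val_eq_one, orderOf_dvd_iff_zpow_eq_one]

theorem xp_ZG {t : Y} {ζ : kˣ} {v : X.I → ℤ} (h : Xp X t ζ v) (ht : t ∈ X.T) : t ∈ ZG X ↔ Dz (orderOf ζ) v :=
  ⟨fun h1 i => by
    rw [← sr_dot i v]
    exact (xp_one h _).1 (h1.2 _ (isRoot_sr _ _ i)), fun h1 => ⟨ht, fun a _ => (xp_one h a).2 (Dz.dot h1 a)⟩⟩

theorem xp_mul {s t : Y} {ζ : kˣ} {u v : X.I → ℤ} (hs : s ∈ X.T) (ht : t ∈ X.T) (h : Xp X s ζ u) (h' : Xp X t ζ v) :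
    Xp X (s * t) ζ (u + v) := fun a => by
  rw [X.χ_mul a hs ht, h a, h' a, dotProduct_add, _root_.zpow_add, Units.val_mul]

theorem xp_pow {t : Y} {ζ : kˣ} {v : X.I → ℤ} (ht : t ∈ X.T) (h : Xp X t ζ v) (j : ℕ) : Xp X (t ^ j) ζ ((j : ℤ) • v) :=
  fun a => by
    rw [χ_pow X a ht, h a, dotProduct_smul, smul_eq_mul, mul_comm, _root_.zpow_mul, zpow_natCast, Units.val_pow_eq_pow_val]

theorem Tl.pow {l : ℕ} {t : Y} (h : Tl X l t) (j : ℕ) : Tl X l (t ^ j) :=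
  ⟨pow_mem h.1 j, by rw [map_pow, h.2.1], h.2.2.imp fun i hi => by rw [← pow_mul, mul_comm, pow_mul, hi, one_pow]⟩

/-- exponential coordinates of a fixed element -/
theorem exists_xp {l : ℕ} (hl : l.Prime) {t : Y} (h : Tl X l t) : ∃ (e : ℕ) (ζ : kˣ) (v μ : X.I → ℤ), orderOf ζ = l ^ e ∧
    Xp X t ζ v ∧ Qm X *ᵥ v - v = (l : ℤ) ^ e • μ := by
  obtain ⟨ht, hF, j, hj⟩ := h
  obtain ⟨ζ, u, -, h1, rfl⟩ := exists_exp X ht
  obtain ⟨e, -, he⟩ := (Nat.dvd_prime_pow hl).1 (h1.trans (orderOf_dvd_of_pow_eq_one hj))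
  have h2 : Dz ((l : ℤ) ^ e) (X.Mx *ᵥ u - u) := fun i => by
    rw [X.F_τ, mon_coch] at hF
    have h3 : ζ ^ (X.Mx *ᵥ u) i = ζ ^ u i := congrFun (X.τ_inj hF) i
    rw [← Nat.cast_pow, ← he, orderOf_dvd_iff_zpow_eq_one, Pi.sub_apply, _root_.zpow_sub, h3, mul_inv_cancel]
  obtain ⟨μ, hμ⟩ := Dz.ex h2
  refine ⟨e, ζ, Am X *ᵥ u, Am X *ᵥ μ, he, fun a => ?_, ?_⟩
  · rw [X.χ_τ, chr_coch, dot_Am]
    rfl
  · rw [mulVec_mulVec, Qm_Am, ← mulVec_mulVec, ← mulVec_sub, hμ, mulVec_smul]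

theorem mem_clo {Z : Set Y} (hZ : Z ⊆ X.T) (hF : ∀ z ∈ Z, F z ∈ Z) {w : X.W} {m : Y} (hm : X.Rp w m) (hc : m ∈ X.cen Z) :
    w ∈ closure (X.rf '' X.Sz Z) := by
  have hF' : ∀ a ∈ X.Sz Z, X.g a ∈ X.Sz Z := fun a ha => X.g_mem_Sz hZ hF ha
  obtain ⟨v, hv⟩ : m ∈ (X.sub hZ hF' rfl).NN := by
    rw [X.sub_NN hZ hF' rfl]
    exact ⟨⟨w, hm⟩, hc⟩
  rw [← X.range_subW, X.rp_unique hm (X.rp_of_sub hZ hF' rfl hv)]
  exact ⟨v, rfl⟩

section Wa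

variable {Wa : X.W →* Matrix X.I X.I ℤ} (hW : ∀ w, Wa w * Am X = Am X * X.Wm w)
include hW

theorem vecMul_Wa (w : X.W) (a : X.I → ℤ) : a ᵥ* Wa w = X.act w⁻¹ a := X.wt_injective (by
  rw [X.wt_act', ← vecMul_Am, ← vecMul_Am, vecMul_vecMul, vecMul_vecMul, hW])

theorem dot_Wa (w : X.W) (a v : X.I → ℤ) : a ⬝ᵥ Wa w *ᵥ v = X.act w⁻¹ a ⬝ᵥ v := by
  rw [dotProduct_mulVec, vecMul_Wa hW]

theorem xp_conj {w : X.W} {m t : Y} (hm : X.Rp w m) (ht : t ∈ X.T) {ζ : kˣ} {v : X.I → ℤ} (h : Xp X t ζ v) :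
    Xp X (m * t * m⁻¹) ζ (Wa w *ᵥ v) := fun a => by
  rw [dot_Wa hW, ← h, ← X.χ_rp hm (X.act w⁻¹ a) ht, act_act_inv]

theorem Qm_Wa (w : X.W) : Qm X * Wa w = Wa (X.Fw w) * Qm X := Am_cancel X (by
  rw [Matrix.mul_assoc, hW, ← Matrix.mul_assoc, Qm_Am, Matrix.mul_assoc, X.Mx_Wm, ← Matrix.mul_assoc, ← hW, Matrix.mul_assoc,
    ← Qm_Am, Matrix.mul_assoc])

theorem Wa_rf {a : X.I → ℤ} (ha : X.Rt a) : ∃ β, ∀ x, Wa (X.rf a) *ᵥ x - x = (a ⬝ᵥ x) • (β ᵥ* Cm X) := by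
  obtain ⟨β, hβ⟩ : ∃ β, X.cor a = cl X β := by
    obtain ⟨w, i, rfl⟩ := ha
    obtain ⟨β, hβ⟩ := exists_cl X (X.cw i) w
    exact ⟨sr i + β, by rw [cl_add, cl_sr, ← hβ]; exact X.cor_act_sr w i⟩
  refine ⟨-β, fun x => funext fun i => ?_⟩
  rw [Pi.sub_apply, ← sr_dot i (Wa _ *ᵥ x), dot_Wa hW, inv_eq_of_mul_eq_one_right (X.rf_mul_self ha), X.act_rf ha,
    sub_dotProduct, smul_dotProduct, sr_dot, neg_vecMul, ← Am_cl, ← hβ, Pi.smul_apply, Pi.neg_apply,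
    ← sr_dot i (Am X *ᵥ _), dot_Am, ← X.pair_cor ha, smul_eq_mul, smul_eq_mul]
  show _ = _ * -∑ j, _
  ring

theorem clo_mv (hr : ∀ w v, ∃ β, Wa w *ᵥ v - v = β ᵥ* Cm X) {S : Set (X.I → ℤ)} (hS : ∀ a ∈ S, X.Rt a) {n : ℤ} {u : X.W}
    (hu : u ∈ closure (X.rf '' S)) : ∀ x, (∀ a ∈ S, n ∣ a ⬝ᵥ x) → ∃ β, Wa u *ᵥ x - x = n • (β ᵥ* Cm X) := by
  induction hu using closure_induction with
  | mem u hu =>
    obtain ⟨a, ha, rfl⟩ := hu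
    obtain ⟨β, hβ⟩ := Wa_rf hW (hS a ha)
    intro x hx
    obtain ⟨c, hc⟩ := hx a ha
    exact ⟨c • β, by rw [hβ, hc, smul_vecMul, smul_smul]⟩
  | one => exact fun x _ => ⟨0, by rw [map_one, one_mulVec, sub_self, zero_vecMul, smul_zero]⟩
  | mul u v _ _ h1 h2 =>
    intro x hx
    obtain ⟨γ, hγ⟩ := h2 x hx
    obtain ⟨β, hβ⟩ := h1 (Wa v *ᵥ x) fun a ha => by
      rw [sub_eq_iff_eq_add.1 hγ, dotProduct_add, dotProduct_smul]
      exact dvd_add (dvd_mul_right _ _) (hx a ha)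
    exact ⟨β + γ, by rw [map_mul, ← mulVec_mulVec, add_vecMul, smul_add, ← hβ, ← hγ, sub_add_sub_cancel]⟩
  | inv u _ h1 =>
    intro x hx
    obtain ⟨β, hβ⟩ := h1 x hx
    obtain ⟨γ, hγ⟩ := hr u⁻¹ (β ᵥ* Cm X)
    have h2 := congrArg (Wa u⁻¹ *ᵥ ·) hβ
    simp only [mulVec_sub, mulVec_mulVec, ← map_mul, inv_mul_cancel, map_one, one_mulVec, mulVec_smul] at h2
    refine ⟨-(γ + β), ?_⟩
    rw [← neg_sub, h2, sub_eq_iff_eq_add.1 hγ, neg_vecMul, add_vecMul, smul_neg]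

end Wa

theorem Qm_pow_eq {m : ℕ} (hm : 0 < m) : Qm (X.pow hm) = Qm X ^ m :=
  Am_cancel X ((Qm_Am (X.pow hm)).trans (Qm_pow_Am X m).symm)

/-- the action on the fixed `l`-elements is induced by the Weyl group -/
theorem exists_form {l : ℕ} {g : Y} (hg : g ∈ G) (hn : ∀ t, Tl X l t → Tl X l (g * t * g⁻¹)) :
    ∃ c ∈ X.S (X.Sz {t | Tl X l t}), ∃ w m, X.Rp w m ∧ g = c * m ∧ ∀ t, Tl X l t → m * t * m⁻¹ = g * t * g⁻¹ := by
  have h1 : ∀ (j : ℕ) t, Tl X l t → Tl X l (g ^ j * t * (g ^ j)⁻¹) := fun j => by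
    induction j with
    | zero => intro t ht; simpa using ht
    | succ j ih =>
      intro t ht
      have := hn _ (ih t ht)
      rwa [show g * (g ^ j * t * (g ^ j)⁻¹) * g⁻¹ = g ^ (j + 1) * t * (g ^ (j + 1))⁻¹ by rw [pow_succ']; group] at this
  obtain ⟨j, hj⟩ := Nat.exists_eq_succ_of_ne_zero (X.amb.isOfFinOrder g).orderOf_pos.ne'
  have h2 : g ^ j = g⁻¹ := eq_inv_of_mul_eq_one_left (by rw [← pow_succ, ← Nat.succ_eq_add_one, ← hj, pow_orderOf_eq_one])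
  obtain ⟨c, hc, m, ⟨w, hm⟩, -, e⟩ := X.exists_conj_form (s := fun z : {t | Tl X l t} => g ^ j * z.1 * (g ^ j)⁻¹)
    (t := fun z : {t | Tl X l t} => z.1) (fun z => (h1 j _ z.2).1) (fun z => z.2.1) hg fun z => by rw [h2]; group
  rw [Subtype.range_coe] at hc
  refine ⟨c, hc, w, m, hm, e, fun t ht => ?_⟩
  have h3 := X.cen_le_centralizer (Z := {t | Tl X l t}) (fun _ h => h.1) (X.S_le_cen _ hc) _ (hn t ht)
  rw [show m = c⁻¹ * g by rw [e, inv_mul_cancel_left]]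
  calc _ = c⁻¹ * (g * t * g⁻¹ * c) := by group
    _ = _ := by rw [h3, inv_mul_cancel_left]

theorem cop {q d l : ℕ} (nq : Nq p q d l) : ¬ (l : ℤ) ∣ (q : ℤ) := fun h => by
  obtain ⟨f, -, rfl⟩ := nq.pq
  exact nq.ne ((Nat.prime_dvd_prime_iff_eq nq.lp Fact.out).1 (nq.lp.dvd_of_dvd_pow (Int.natCast_dvd_natCast.1 h)))

theorem d_pos {q d l : ℕ} (nq : Nq p q d l) : 0 < d := by
  have h1 : q.Coprime l := ((Nat.Prime.coprime_iff_not_dvd nq.lp).2 fun h => cop nq (Int.natCast_dvd_natCast.2 h)).symm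
  have h2 : q.Coprime (if l = 2 then 4 else l) := by
    split_ifs with h
    · subst h
      exact Nat.Coprime.pow_right 2 h1
    · exact h1
  have : NeZero (if l = 2 then 4 else l) := ⟨by split_ifs; exacts [by norm_num, nq.lp.ne_zero]⟩
  rw [← nq.dl, ← ZMod.coe_unitOfCoprime q h2, orderOf_units]
  exact orderOf_pos _

theorem r_ne {q d l r m : ℕ} (nq : Nq p q d l) (nr : Nr q d r m) (hm : 0 < m) : r ≠ p := by
  rintro rfl
  obtain ⟨f, hf, rfl⟩ := nq.pq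
  have h1 := pow_orderOf_eq_one ((r ^ f : ℕ) : ZMod r)
  rw [nr.ord, Nat.cast_pow, ZMod.natCast_self, zero_pow hf.ne', zero_pow (Nat.mul_pos (d_pos nq) hm).ne'] at h1
  exact zero_ne_one h1

theorem ord_pow {q d l r m : ℕ} (nq : Nq p q d l) (nr : Nr q d r m) (hm : 0 < m) :
    orderOf ((((q : ℤ) ^ m : ℤ)) : ZMod r) = orderOf (((q : ℤ)) : ZMod (if l = 2 then 4 else l)) := by
  rw [Int.cast_pow, Int.cast_natCast, Int.cast_natCast, nq.dl, orderOf_pow' _ hm.ne', nr.ord, Nat.gcd_eq_right (dvd_mul_left m d),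
    Nat.mul_div_cancel _ hm]

end Gk

open Gk

variable {p : ℕ} [Fact p.Prime] {k : Type} [Field k] [CharP k p] {Y : Type} [Group Y] {N : Type} [Fintype N]
  [DecidableEq N] {ρ : Y →* GL N k} {F : MulAut Y} {G : Subgroup Y} [IsAlgClosed k]

/-- **the fixed points of the simply connected torus are central** -/
theorem kd_cen (Lat : BoxLat) (Dat : BoxDat) (K : BoxK) (X : Datum p ρ F G) {q d l n c r m : ℕ} (nq : Nq p q d l)
    (nr : Nr q d r m) (cs : Cs X q n c) (hm0 : 0 < m) (hm : m ≡ 1 [MOD n]) (cz : CZ X)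
    (an : Pt F G m r X.T = Pt F G m r (Z0 X ∅)) (H : Subgroup Y)
    (h2 : ∀ (t : Y) (e : ℕ) (ζ : kˣ) (v μ : X.I → ℤ), Tl X l t → orderOf ζ = l ^ e → Xp X t ζ v →
      Qm X *ᵥ v - v = (l : ℤ) ^ e • μ →
      (t ∈ H ↔ ∃ (s : ℤ) (β ν : X.I → ℤ), ¬ (l : ℤ) ∣ s ∧ s • μ = β ᵥ* Cm X + (Qm X *ᵥ ν - ν)))
    {g : Y} (hg : g ∈ GF F G) (hn : ∀ t, Tl X l t → Tl X l (g * t * g⁻¹)) (hgl : g ^ l ∈ ZG X)
    (hnm : ∀ t, Tl X l t → (t * g) ^ l ∈ ZG X) (hdl : ∀ t, Tl X l t → g ∈ X.cen {t} → t ∈ ZG X)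
    (hel : ∀ t, Tl X l t → t ^ l ∈ H) : ∀ t, Tl X l t → t ∈ H → t ∈ ZG X := by
  obtain ⟨dd, B, Wa, hC, hA, hB, hQ, hS, hW, hWS, hr⟩ := Dat X q n c cs
  obtain ⟨cc, hc, w, mm, hmm, hge, hact⟩ := exists_form hg.1 hn
  have hlp : Prime (l : ℤ) := Nat.prime_iff_prime_int.1 nq.lp
  have hQv : ∀ v, Qm X *ᵥ v = (q : ℤ) • (B *ᵥ v) := fun v => by rw [hQ, smul_mulVec]
  have prim : ∀ e : ℕ, ∃ ζ : kˣ, orderOf ζ = l ^ e := fun e => exists_prim p k fun h =>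
    nq.ne ((Nat.prime_dvd_prime_iff_eq Fact.out nq.lp).1 ((Fact.out : p.Prime).dvd_of_dvd_pow h)).symm
  have lat : ∀ (e : ℕ) v, Vv l q B e v → ∃ (ζ : kˣ) (t : Y), orderOf ζ = l ^ e ∧ Tl X l t ∧ Xp X t ζ v := fun e v hv => by
    obtain ⟨ζ, hζ⟩ := prim e
    obtain ⟨t, h3, h4⟩ := Lat X cz l e ζ v nq.lp nq.ne hζ (by rw [hQv]; exact hv)
    exact ⟨ζ, t, hζ, h3, h4⟩
  have act : ∀ {t : Y} {ζ : kˣ} {v : X.I → ℤ}, Tl X l t → Xp X t ζ v → Xp X (g * t * g⁻¹) ζ (Wa w *ᵥ v) := fun ht h =>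
    hact _ ht ▸ xp_conj hW hmm ht.1 h
  have zg : ∀ {t : Y} {ζ : kˣ} {v : X.I → ℤ} {e : ℕ}, orderOf ζ = l ^ e → t ∈ X.T → Xp X t ζ v →
      (t ∈ ZG X ↔ Dz ((l : ℤ) ^ e) v) := fun hζ ht h => by rw [xp_ZG h ht, hζ, Nat.cast_pow]
  have kc : Kc l q (Cm X) B := by
    refine K (Cm X) B (Wa w) dd l r q ((q : ℤ) ^ m) nq.lp nr.rp (cop nq) (ord_pow nq nr hm0) hC hA hS (hWS w) (fun v hv => ?_)
      ⟨hr w, fun e v hv => ?_, fun e v β hv h => ?_, fun e v hv => ?_, ?_⟩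
    · obtain ⟨ζ, hζ⟩ := exists_prim p k (n := r ^ 1) fun h =>
        r_ne nq nr hm0 ((Nat.prime_dvd_prime_iff_eq Fact.out nr.rp).1 (by rwa [pow_one] at h)).symm
      obtain ⟨j, hj⟩ := (Nat.modEq_iff_dvd' hm0).1 hm.symm
      have h3 : Qm (X.pow hm0) *ᵥ v = ((q : ℤ) ^ m) • (B *ᵥ v) := by
        have h0 : B ^ m = B := by rw [show m = n * j + 1 by omega, pow_succ B, pow_mul B, hB, one_pow, one_mul]
        rw [Qm_pow_eq, hQ, smul_pow, smul_mulVec, h0]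
      obtain ⟨t, h4, h5⟩ := Lat (X.pow hm0) cz r 1 ζ v nr.rp (r_ne nq nr hm0) hζ (by rw [h3]; exact hv)
      have h6 : (⟨t, X.T_le_G h4.1, h4.2.1⟩ : ↥(GF (F ^ m) G)) ∈ Pt F G m r (Z0 X ∅) := 
        an ▸ Subgroup.subset_closure ⟨h4.1, h4.2.2.imp fun _ h => Subtype.ext h⟩
      have h7 : Pt F G m r (Z0 X ∅) ≤ (Z0 X ∅).subgroupOf _ := (closure_le _).2 fun _ h => h.1
      have h8 : t ∈ ZG X := ⟨h4.1, fun a ha => χ_Z0 (fun v hv => hv a ⟨ha, fun _ h => h.elim⟩) (h7 h6)⟩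
      have h9 := (xp_ZG (X := X) h5 h4.1).1 h8
      rwa [hζ, pow_one] at h9
    · obtain ⟨ζ, t, hζ, ht, h⟩ := lat e v hv
      have h3 : ∀ j : ℕ, Tl X l (g ^ j * t * (g ^ j)⁻¹) ∧ Xp X (g ^ j * t * (g ^ j)⁻¹) ζ ((Wa w ^ j) *ᵥ v) := fun j => by
        induction j with
        | zero => simpa using ⟨ht, h⟩
        | succ j ih =>
          rw [show g ^ (j + 1) * t * (g ^ (j + 1))⁻¹ = g * (g ^ j * t * (g ^ j)⁻¹) * g⁻¹ by rw [pow_succ']; group, pow_succ',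
            ← mulVec_mulVec]
          exact ⟨hn _ ih.1, act ih.1 ih.2⟩
      have h4 : ∀ j : ℕ, (t * g) ^ j * (g ^ j)⁻¹ ∈ X.T ∧
          Xp X ((t * g) ^ j * (g ^ j)⁻¹) ζ (∑ i ∈ Finset.range j, (Wa w ^ i) *ᵥ v) := fun j => by
        induction j with
        | zero =>
          rw [pow_zero, pow_zero, inv_one, mul_one, Finset.sum_range_zero]
          exact ⟨one_mem _, fun a => by rw [X.χ_one, dotProduct_zero, zpow_zero, Units.val_one]⟩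
        | succ j ih =>
          rw [show (t * g) ^ (j + 1) * (g ^ (j + 1))⁻¹ = (t * g) ^ j * (g ^ j)⁻¹ * (g ^ j * t * (g ^ j)⁻¹) by
            rw [pow_succ, pow_succ']; group, Finset.sum_range_succ]
          exact ⟨mul_mem ih.1 (h3 j).1.1, xp_mul ih.1 (h3 j).1.1 ih.2 (h3 j).2⟩
      exact (zg hζ (h4 l).1 (h4 l).2).1 (mul_mem (hnm t ht) (inv_mem hgl))
    · obtain ⟨ζ, t, hζ, ht, hx⟩ := lat e v hv
      refine (zg hζ ht.1 hx).1 (hdl t ht ?_)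
      have h3 : w⁻¹ ∈ WZ X {t} := stab X (l := AddMonoidHom.mk' (fun a => a ⬝ᵥ v) fun a b => add_dotProduct a b v)
        (n := (l : ℤ) ^ e) (pow_pos (Int.natCast_pos.2 nq.lp.pos) e) (fun a ha hd => rf_mem_WZ X a ⟨ha, fun z hz => by
          rw [hz, xp_one hx, hζ, Nat.cast_pow]
          exact hd⟩) ⟨β, fun a => by
            show X.act w⁻¹ a ⬝ᵥ v = a ⬝ᵥ v + _
            rw [← dot_Wa hW, sub_eq_iff_eq_add.1 h, dotProduct_add, dotProduct_smul, dot_Cm, smul_eq_mul, add_comm]⟩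
      rw [hge]
      exact mul_mem (X.cen_anti (Set.singleton_subset_iff.2 ht) (X.S_le_cen _ hc)) ((mem_WZ X hmm).1 (inv_mem_iff.1 h3))
    · obtain ⟨ζ, t, hζ, ht, hx⟩ := lat e v hv
      have hZ : {t | Tl X l t} ⊆ X.T := fun _ h => h.1
      have hF : ∀ z ∈ {t | Tl X l t}, F z ∈ {t | Tl X l t} := fun z hz => by rw [hz.2.1]; exact hz
      have h3 : F mm * mm⁻¹ = (F cc)⁻¹ * cc := by
        have h4 : F cc * F mm = cc * mm := by rw [← map_mul, ← hge]; exact hg.2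
        rw [eq_inv_mul_iff_mul_eq, ← mul_assoc, h4, mul_inv_cancel_right]
      have h4 : X.Fw w * w⁻¹ ∈ closure (X.rf '' X.Sz {t | Tl X l t}) := mem_clo hZ hF ((Datum.Rp.mapF hmm).mul hmm.inv)
        (h3 ▸ X.S_le_cen _ (mul_mem (inv_mem (X.F_mem_S X.Sz_root (fun a ha => X.g_mem_Sz hZ hF ha) hc)) hc))
      obtain ⟨β, hβ⟩ := clo_mv hW hr X.Sz_root (n := (l : ℤ) ^ e) h4 (Wa w *ᵥ (B *ᵥ v)) fun a ha => by
        have h5 := (xp_one (act ht hx) a).1 (ha.2 _ (hn t ht))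
        rw [hζ, Nat.cast_pow] at h5
        obtain ⟨μ, hμ⟩ := Dz.ex hv
        refine (IsCoprime.pow_left ((Prime.coprime_iff_not_dvd hlp).2 (cop nq))).dvd_of_dvd_mul_left ?_
        rw [← smul_eq_mul, ← dotProduct_smul, ← mulVec_smul, sub_eq_iff_eq_add.1 hμ, mulVec_add, dotProduct_add, mulVec_smul,
          dotProduct_smul]
        exact dvd_add (dvd_mul_right _ _) h5
      have h6 : B * Wa w = Wa (X.Fw w) * B := smul_right_injective _ (fun h : (q : ℤ) = 0 => cop nq (h ▸ dvd_zero _)) (by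
        have h7 := Qm_Wa hW w
        rwa [hQ, Matrix.smul_mul, Matrix.mul_smul] at h7)
      refine ⟨β, ?_⟩
      rw [← hβ, mulVec_mulVec _ (Wa _) (Wa _), ← map_mul, inv_mul_cancel_right, mulVec_mulVec _ B, h6, ← mulVec_mulVec]
    · have h3 : (q : ℤ) ^ n - 1 ≠ 0 := by
        obtain ⟨f, hf, rfl⟩ := nq.pq
        have := Nat.one_lt_pow cs.n0.ne' (Nat.one_lt_pow hf.ne' (Fact.out : p.Prime).one_lt)
        rw [sub_ne_zero]
        exact_mod_cast this.ne'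
      obtain ⟨e, s, h4, h5⟩ := WfDvdMonoid.max_power_factor h3 hlp.irreducible
      refine ⟨s, h4, fun μ => ?_⟩
      have h6 : Qm X *ᵥ ((∑ i ∈ Finset.range n, Qm X ^ i) *ᵥ μ) - (∑ i ∈ Finset.range n, Qm X ^ i) *ᵥ μ =
          (l : ℤ) ^ e • s • μ := by
        rw [mulVec_mulVec, ← sub_mulVec, ← sub_one_mul, mul_geom_sum, hQ, smul_pow, hB, sub_mulVec, smul_mulVec, one_mulVec,
          smul_smul, ← h5, sub_smul, one_smul]
      generalize (∑ i ∈ Finset.range n, Qm X ^ i) *ᵥ μ = v at h6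
      obtain ⟨ζ, t, hζ, ht, hx⟩ := lat e v (by
        rw [Vv, ← hQv, h6]
        exact dz_smul _ _)
      obtain ⟨s', β, ν, h7, h8⟩ := (h2 (t ^ l) e ζ ((l : ℤ) • v) ((l : ℤ) • s • μ) (Tl.pow ht l) hζ (xp_pow ht.1 hx l) (by
        rw [mulVec_smul, ← smul_sub, h6, smul_comm])).1 (hel t ht)
      obtain ⟨a, b, hab⟩ : IsCoprime ((l : ℤ) ^ e) s' := IsCoprime.pow_left ((Prime.coprime_iff_not_dvd hlp).2 h7)
      refine ⟨b • β, (a * l) • v + b • ν, ?_⟩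
      rw [← hQv, mulVec_add, mulVec_smul, mulVec_smul, sub_eq_iff_eq_add.1 h6, smul_vecMul,
        show Qm X *ᵥ ν = s' • (l : ℤ) • s • μ - β ᵥ* Cm X + ν by rw [h8]; abel, ← one_mul (s * l), ← hab]
      module
  intro t ht hH
  obtain ⟨e, ζ, v, μ, hζ, hx, hμ⟩ := exists_xp nq.lp ht
  obtain ⟨s, β, ν, h3, h4⟩ := (h2 t e ζ v μ ht hζ hx hμ).1 hH
  have h5 := kc e (s • v - (l : ℤ) ^ e • ν) β (by
    rw [← hQv, mulVec_sub, mulVec_smul, mulVec_smul, sub_eq_iff_eq_add.1 hμ,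
      show Qm X *ᵥ ν = s • μ - β ᵥ* Cm X + ν by rw [h4]; abel]
    module)
  refine (zg hζ ht.1 hx).2 fun i => (IsCoprime.pow_left ((Prime.coprime_iff_not_dvd hlp).2 h3)).dvd_of_dvd_mul_left ?_
  exact (dvd_sub_left (dvd_mul_right _ (ν i))).1 (h5 i)

end Cfsg.Agent.BZ.TA
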