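import Cfsg.Agent.BZ.L.TA.GrpB
import Cfsg.Agent.BZ.L.TA.GrpK

/-!
# BZ / L / TA : the group theory (helper37)
-/

set_option autoImplicit false

namespace Cfsg.Agent.BZ.TA

theorem kdCen_of (Lat : BoxLat) (Dat : BoxDat) (K : BoxK) : KdCen :=
  fun X _ _ _ _ _ _ _ nq nr cs hm0 hm cz an H h2 _ hg hn hgl hnm hdl hel =>
    kd_cen Lat Dat K X nq nr cs hm0 hm cz an H h2 hg hn hgl hnm hdl hel

/-- **the group theory** -/
theorem boxGrp_of (H0 : BoxH0) (Lat : BoxLat) (Dat : BoxDat) (K : BoxK) : BoxGrp := boxGrp_of_kd H0 (kdCen_of Lat Dat K)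

end Cfsg.Agent.BZ.TA
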