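import Cfsg.Agent.BZ.L.TA.H0b

/-!
# BZ / L / TA : `boxH0_of` (helper46)
-/

set_option autoImplicit false
set_option linter.unusedSectionVars false

namespace Cfsg.Agent.BZ.TA

open Cfsg Subgroup Cfsg.Agent.DL Cfsg.Agent.KM.Tor Cfsg.Agent.DL.PP Cfsg.Agent.HZ.L.Reg Cfsg.Agent.Nodes.Reps Matrix
  Cfsg.Agent.Tits.Roots Cfsg.Agent.ChevalleyStructure.CoxeterGeom Cfsg.Agent.Nodes.SubComb Cfsg.Agent.DL.Base
open Cfsg.Agent.TO.X.Cn (Af mem_Af rf_mem_Af stab WZ mem_WZ rf_mem_WZ)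
open scoped commutatorElement

namespace H0

variable {p : ℕ} [Fact p.Prime] {k : Type} [Field k] [CharP k p] {Y : Type} [Group Y] {N : Type} [Fintype N]
  [DecidableEq N] {ρ : Y →* GL N k} {F : MulAut Y} {G : Subgroup Y} [IsAlgClosed k] {X : Datum p ρ F G}

/-- `w` moves `v` by `n • δ` -/
def Dl (X : Datum p ρ F G) (n : ℤ) (v : X.I → ℤ) (w : X.W) (δ : X.I → ℤ) : Prop :=
  ∀ a, X.act w a ⬝ᵥ v = a ⬝ᵥ v + n * (a ⬝ᵥ δ)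

variable {n : ℤ} {v δ δ' ν : X.I → ℤ} {w w' : X.W} {u : Y} {ζ : kˣ}

theorem Dl.iff (hn : n ≠ 0) (h : Dl X n v w δ) (h' : Dl X n v w' δ') :
    w * w'⁻¹ ∈ Af X n (fv v) ↔ ∃ β, δ - δ' = β ᵥ* Cm X := by
  obtain ⟨γ, hγ⟩ := act_dot X w'⁻¹ (δ - δ')
  have h1 : ∀ a, fv v (X.act (w * w'⁻¹) a) = fv v a + n * (a ⬝ᵥ (δ - δ' + γ ᵥ* Cm X)) := fun a => by
    have h2 := h' (X.act w'⁻¹ a)
    rw [← CF.act_mul, mul_inv_cancel, CF.act_one] at h2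
    show X.act (w * w'⁻¹) a ⬝ᵥ v = a ⬝ᵥ v + _
    rw [CF.act_mul, h, dotProduct_add, ← hγ, h2, dotProduct_sub]
    ring
  refine (mem_Af X).trans ⟨fun ⟨β, hβ⟩ => ⟨β - γ, ?_⟩, fun ⟨β, hβ⟩ => ⟨β + γ, fun a => ?_⟩⟩
  · rw [sub_vecMul, eq_sub_iff_add_eq]
    exact eq_of_dot fun a => mul_left_cancel₀ hn (add_left_cancel ((h1 a).symm.trans ((hβ a).trans (by rw [co_eq]))))
  · rw [h1, hβ, co_eq, add_vecMul]

theorem Dl.mapF (h : Dl X n v w δ) (hv : Qm X *ᵥ v - v = n • ν) : ∃ γ, Dl X n v (X.Fw w) (Qm X *ᵥ δ - γ ᵥ* Cm X) := by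
  obtain ⟨γ, hγ⟩ := act_dot X (X.Fw w) ν
  have h1 : ∀ a, X.ψ a ⬝ᵥ v = a ⬝ᵥ v + n * (a ⬝ᵥ ν) := fun a => by
    rw [← dot_Qm, sub_eq_iff_eq_add'.1 hv, dotProduct_add, dotProduct_smul, smul_eq_mul]
  refine ⟨γ, fun a => ?_⟩
  have h2 := h1 (X.act (X.Fw w) a)
  rw [X.ψ_act, h, h1, hγ, ← dot_Qm] at h2
  rw [dotProduct_sub]
  linear_combination -h2

attribute [local instance] fintypeSmp decSmp in
theorem af_iff (hu : u ∈ X.T) (hF : F u = u) {m : ℕ} (hm : 0 < m) (hζ : IsPrimitiveRoot ζ m) (hx : Xp X u ζ v) {x : Y}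
    (h : X.Rp w x) : w ∈ Af X m (fv v) ↔ x ∈ X.cen {u} := by
  have h0 : ∀ a, X.χ a u = 1 ↔ (m : ℤ) ∣ fv v a := fun a => by
    rw [hx, Units.val_eq_one, hζ.zpow_eq_one_iff_dvd]
    rfl
  refine ⟨fun h1 => (mem_WZ X h).1 (stab X (Int.natCast_pos.2 hm)
    (fun a ha h2 => rf_mem_WZ X a ⟨ha, fun z hz => (congrArg _ hz).trans ((h0 a).2 h2)⟩) h1), fun h1 => ?_⟩
  have hZ := Set.singleton_subset_iff.2 hu
  have h3 := fun a ha => X.g_mem_Sz hZ (fun z hz => (congrArg F hz).trans hF) (a := a) ha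
  obtain ⟨x', hx'⟩ : x ∈ (X.sub hZ h3 rfl).NN := by
    rw [Datum.sub_NN]
    exact ⟨⟨w, h⟩, h1⟩
  have h4 : w ∈ closure (X.rf '' X.Sz {u}) := X.range_subW (Z := {u}) ▸ ⟨x', X.rp_unique (X.rp_of_sub hZ h3 rfl hx') h⟩
  refine (closure_le _).2 ?_ h4
  rintro _ ⟨a, ha, rfl⟩
  exact rf_mem_Af X ha.1 ((h0 a).1 (ha.2 u rfl))

theorem exists_Dl (hu : u ∈ X.T) {m : ℕ} (hζ : IsPrimitiveRoot ζ m) (hx : Xp X u ζ v) {y : Y} (hy : y ∈ G)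
    (h : y * u * y⁻¹ * u⁻¹ ∈ ZG X) : ∃ c ∈ X.cen {u}, ∃ x w δ, X.Rp w x ∧ y = c * x ∧ Dl X m v w δ ∧ ∃ β, (m : ℤ) • δ = β ᵥ* Cm X := by
  have h0 : ∀ a, X.χ a (y * u * y⁻¹ * u⁻¹ * u) = X.χ a u := fun a => by rw [X.χ_mul a h.1 hu, χ_cen h, one_mul]
  obtain ⟨c, hc, x, ⟨w, hw⟩, h1, rfl⟩ := X.exists_conj_form (s := fun _ : Unit => u) (t := fun _ : Unit => y * u * y⁻¹ * u⁻¹ * u)
    (fun _ => hu) (fun _ => mul_mem h.1 hu) hy fun _ => by group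
  obtain ⟨β, hβ⟩ := act_dot X w v
  obtain ⟨δ, hδ⟩ := dz_ex (M := m) (v := β ᵥ* Cm X) fun i => by
    have h2 := X.χ_rp hw (Pi.single i 1) hu
    rw [h1 (), mul_inv_cancel_right, h0, hx, hx, Units.val_inj, hβ, _root_.zpow_add, mul_eq_left, hζ.zpow_eq_one_iff_dvd,
      single_dotProduct, one_mul] at h2
    exact h2
  refine ⟨c, X.S_le_cen _ (Nodes.BNOf.RGD.Sup_mono (S' := X.Sz {u}) (fun a ha => ⟨ha.1, fun z hz => ?_⟩) hc), x, w, δ, hw, rfl,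
    fun a => by rw [hβ, ← hδ, dotProduct_smul, smul_eq_mul], β, hδ⟩
  rw [hz, ← h0]
  exact ha.2 _ ⟨(), rfl⟩

theorem F_cen (hu : u ∈ X.T) (hF : F u = u) {c : Y} (hc : c ∈ X.cen {u}) : F c ∈ X.cen {u} :=
  have hZ := Set.singleton_subset_iff.2 hu
  (X.sub hZ (fun _ => X.g_mem_Sz hZ fun _ hz => (congrArg F hz).trans hF) rfl).F_mem_G hc

/-- **the classes of the elements which centralise `u` modulo the centre** -/
theorem delta {l E : ℕ} (hl : l.Prime) (hp : l ≠ p) {s : ℤ} (hs : ¬ (l : ℤ) ∣ s) (hE : ∀ μ, ∃ β, β ᵥ* Cm X = (l : ℤ) ^ E • s • μ)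
    (hu : Tl X l u) {D : Subgroup Y} (hD : D ≤ GF F G) (h : ∀ g ∈ D, g * u * g⁻¹ * u⁻¹ ∈ ZG X) :
    ∃ δ : D → X.I → ℤ, (∀ g, Qm X *ᵥ δ g - δ g ∈ S0 ((l : ℤ) ^ E) (Cm X)) ∧
      ∀ g g', δ g' - δ g ∈ S0 ((l : ℤ) ^ E) (Cm X) → (g : Y)⁻¹ * g' ∈ X.cen {u} := by
  obtain ⟨e, ζ, v, ν, hζ, hx, hv⟩ := exists_Xp hl hp hu 0
  rw [← Nat.cast_pow] at hv
  have h0 := pow_pos hl.pos (e + 0)
  have hn : ((l ^ (e + 0) : ℕ) : ℤ) ≠ 0 := Nat.cast_ne_zero.2 h0.ne'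
  choose c hc x w δ h1 h2 h3 β h4 using fun g : D => exists_Dl hu.1 hζ hx (hD (inv_mem g.2)).1 (h _ (inv_mem g.2))
  refine ⟨δ, fun g => ?_, fun g g' ⟨γ, la, h5⟩ => ?_⟩
  · obtain ⟨γ, h5⟩ := (h3 g).mapF hv
    have h6 := (mem_GF.1 (hD (inv_mem g.2))).2
    rw [h2, map_mul] at h6
    obtain ⟨β', h7⟩ := ((h3 g).iff hn h5).1 ((af_iff hu.1 hu.2.1 h0 hζ hx ((h1 g).mul (Datum.Rp.mapF (h1 g)).inv)).2 (by
      rw [mul_inv_eq_iff_eq_mul.2 ((eq_inv_mul_of_mul_eq h6.symm).trans (mul_assoc _ _ _).symm)]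
      exact mul_mem (inv_mem (hc g)) (F_cen hu.1 hu.2.1 (hc g))))
    exact ⟨γ - β', 0, by rw [sub_vecMul, ← h7, smul_zero]; abel⟩
  · obtain ⟨a, b, hab⟩ : IsCoprime s ((l ^ (e + 0) : ℕ) : ℤ) := by
      rw [Nat.cast_pow]
      exact ((Nat.prime_iff_prime_int.1 hl).coprime_iff_not_dvd.2 hs).symm.pow_right
    obtain ⟨β', h6⟩ := hE la
    have h7 := (af_iff hu.1 hu.2.1 h0 hζ hx ((h1 g').mul (h1 g).inv)).1 (((h3 g').iff hn (h3 g)).2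
      ⟨a • (s • γ + β') + b • (β g' - β g), by
        rw [add_vecMul, smul_vecMul, smul_vecMul, add_vecMul, smul_vecMul, sub_vecMul, h6, ← h4, ← h4, ← smul_sub, smul_comm _ s,
          ← smul_add, ← h5, smul_smul, smul_smul, ← add_smul, hab, one_smul]⟩)
    rw [h2, ← inv_inv (g' : Y), h2]
    convert mul_mem (mul_mem (hc g) (inv_mem h7)) (inv_mem (hc g')) using 1
    group

end H0

open H0 in
/-- **[H0]** -/
theorem boxH0_of (hL : BoxLat) : BoxH0 := by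
  intro p _ k _ _ Y _ N _ _ ρ F G _ X hZ l hl hp
  obtain ⟨E, s, hs, -, hE⟩ := exists_adj hl (det_Cm X)
  have hl' := Nat.prime_iff_prime_int.1 hl
  have hM : (l : ℤ) ^ E ≠ 0 := pow_ne_zero _ hl'.ne_zero
  have : NeZero (l ^ E) := ⟨pow_ne_zero _ hl.ne_zero⟩
  choose μ hμ using fun b : {b // Adm ((l : ℤ) ^ E) (Cm X) (Qm X) b} => exists_lin X hM b.2
  obtain ⟨ξ, hξ⟩ := exists_prim (k := k) hl hp E
  obtain ⟨H, h0, hH⟩ : ∃ H : Subgroup Y, H ≤ GF F G ∧ ∀ g : GF F G, (g : Y) ∈ H ↔ ∀ b, μ b g = 1 :=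
    ⟨(⨅ b, (μ b).ker).map (GF F G).subtype, map_subtype_le _, fun g =>
      (mem_map_iff_mem (GF F G).subtype_injective).trans mem_iInf⟩
  have hA := fun y (hy : y ∈ G) (hN : y⁻¹ * F y ∈ X.NN) (b : {b // Adm ((l : ℤ) ^ E) (Cm X) (Qm X) b}) =>
    ((adm_conj X hy hN).2 b.2).2
  have hG : ∀ {y} (hy : y ∈ G) (hN : y⁻¹ * F y ∈ X.NN) {t}, Tl (X.conj hy hN) l t → t ∈ GF F G := fun hy hN t h =>
    ⟨(X.conj hy hN).T_le_G h.1, h.2.1⟩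
  have hV : ∀ {y} (hy : y ∈ G) (hN : y⁻¹ * F y ∈ X.NN) {t} (ht : Tl (X.conj hy hN) l t) {a ζ v ν}, Xp (X.conj hy hN) t ζ v →
      Qm (X.conj hy hN) *ᵥ v - v = (l : ℤ) ^ (a + E) • ν → ∀ b, μ b ⟨t, hG hy hN ht⟩ = (ζ ^ l ^ a) ^ (b.1 ⬝ᵥ ν) := by
    intro y hy hN t ht a ζ v ν hx hv b
    obtain ⟨j, h1, h2⟩ := (hμ b y hy hN).val (hA y hy hN b) ht.1 (hG hy hN ht) hx hv
    rw [pow_add, mul_comm _ (_ ^ E), mul_assoc] at h2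
    rw [h1, mul_left_cancel₀ hM h2, _root_.zpow_mul, ← Nat.cast_pow, zpow_natCast]
  have hP : ∀ {a} {ζ : kˣ}, IsPrimitiveRoot ζ (l ^ (a + E)) → IsPrimitiveRoot (ζ ^ l ^ a) (l ^ E) := fun h =>
    h.pow (pow_pos hl.pos _) (pow_add _ _ _)
  have h1 : ∀ g : GF F G, ∃ ν, ∀ b, μ b g = ξ ^ (b.1 ⬝ᵥ ν) := fun g => by
    have h2 : ∀ b, μ b g ^ (l : ℤ) ^ E = 1 := fun b => by
      obtain ⟨j, n, hn, e⟩ := Nat.exists_eq_pow_mul_and_not_dvd (X.amb.isOfFinOrder g).orderOf_pos.ne' p (Fact.out : p.Prime).ne_one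
      obtain ⟨y, hy, hN, h3⟩ := TO.E6.exists_frame X (g ^ p ^ j).2 fun h => hn (h.trans (orderOf_dvd_of_pow_eq_one (by
        rw [Subgroup.coe_pow, ← pow_mul, ← e, pow_orderOf_eq_one])))
      have h4 := congrArg Units.val ((hμ b y hy hN).pow (hA y hy hN b) h3 (g ^ p ^ j).2)
      rw [Subtype.coe_eta, map_pow, ← zpow_natCast, ← _root_.zpow_mul, mul_comm, _root_.zpow_mul, zpow_natCast,
        Units.val_pow_eq_pow_val, ← mul_one (p ^ j), Units.val_one, ExpChar.pow_prime_pow_mul_eq_one_iff, pow_one] at h4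
      exact Units.ext h4
    obtain ⟨j, n, hn, e⟩ := Nat.exists_eq_pow_mul_and_not_dvd (X.amb.isOfFinOrder g).orderOf_pos.ne' l hl.ne_one
    obtain ⟨a, c, hac⟩ : IsCoprime (n : ℤ) ((l : ℤ) ^ E) :=
      (hl'.coprime_iff_not_dvd.2 fun h => hn (Int.natCast_dvd_natCast.1 h)).symm.pow_right
    have h3 : ((g ^ n : GF F G) : Y) ^ l ^ j = 1 := by rw [Subgroup.coe_pow, ← pow_mul, mul_comm, ← e, pow_orderOf_eq_one]
    obtain ⟨y, hy, hN, h4⟩ := TO.E6.exists_frame X (g ^ n).2 fun h => hp ((Nat.prime_dvd_prime_iff_eq Fact.out hl).1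
      ((Fact.out : p.Prime).dvd_of_dvd_pow (h.trans (orderOf_dvd_of_pow_eq_one h3)))).symm
    have ht : Tl (X.conj hy hN) l (g ^ n : GF F G) := ⟨h4, (g ^ n).2.2, j, h3⟩
    obtain ⟨a', ζ, v, ν, hζ, hx, hv⟩ := exists_Xp hl hp ht E
    obtain ⟨r, -, hr⟩ := hξ.eq_pow_of_mem_rootsOfUnity ((mem_rootsOfUnity _ _).2 (hP hζ).pow_eq_one)
    refine ⟨a • (r : ℤ) • ν, fun b => ?_⟩
    have h5 := hV hy hN ht hx hv b
    rw [Subtype.coe_eta, map_pow, ← hr, ← zpow_natCast, ← zpow_natCast, ← _root_.zpow_mul] at h5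
    rw [dotProduct_smul, dotProduct_smul, smul_eq_mul, smul_eq_mul, mul_comm a, _root_.zpow_mul, ← h5, ← _root_.zpow_mul,
      mul_comm _ a, eq_sub_of_add_eq hac, _root_.zpow_sub, mul_comm c, _root_.zpow_mul, h2, _root_.one_zpow, inv_one, mul_one, zpow_one]
  refine ⟨H, h0, commutator_le.2 fun g hg g' hg' => (hH ⁅(⟨g, hg⟩ : GF F G), ⟨g', hg'⟩⁆).2 fun b => ?_, fun z hz => ?_, fun y hy hN => ?_⟩
  · rw [map_commutatorElement, commutatorElement_eq_one_iff_mul_comm, mul_comm]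
  · have h2 : (1 : Y)⁻¹ * F 1 ∈ X.NN := by rw [map_one, mul_one]; exact inv_mem (one_mem _)
    have h3 := cen_conj hz.1 (one_mem G) h2
    refine (hH ⟨z, hz.2⟩).2 fun b => Units.ext ?_
    obtain ⟨b', e⟩ := dz_ex (hA 1 (one_mem G) h2 b)
    exact (hμ b 1 (one_mem G) h2 z h3.1 hz.2 b' e).trans (χ_cen h3 b')
  have h2 : ∀ ν, ∃ t, ∃ ht : Tl (X.conj hy hN) l t, ∀ b, μ b ⟨t, hG hy hN ht⟩ = ξ ^ (b.1 ⬝ᵥ ν) := fun ν => by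
    obtain ⟨a, s', hs', h3, -⟩ := exists_adj hl (det_Qm (X.conj hy hN))
    obtain ⟨ζ, hζ⟩ := exists_prim (k := k) hl hp (a + E)
    obtain ⟨r, -, hr⟩ := ((hP hζ).zpow_of_gcd_eq_one s' (Int.isCoprime_iff_gcd_eq_one.1 (by
      rw [Nat.cast_pow]
      exact (hl'.coprime_iff_not_dvd.2 hs').symm.pow_right))).eq_pow_of_mem_rootsOfUnity ((mem_rootsOfUnity _ _).2 hξ.pow_eq_one)
    obtain ⟨v, hv⟩ := h3 ((r : ℤ) • ν)
    have h4 : Qm (X.conj hy hN) *ᵥ ((l : ℤ) ^ E • v) - (l : ℤ) ^ E • v = (l : ℤ) ^ (a + E) • s' • (r : ℤ) • ν := by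
      rw [sub_mulVec, one_mulVec] at hv
      rw [mulVec_smul, ← smul_sub, hv, smul_smul, ← pow_add, add_comm]
    obtain ⟨t, ht, hx⟩ := hL (X.conj hy hN) hZ l (a + E) ζ _ hl hp hζ.eq_orderOf.symm fun i => ⟨_, congrFun h4 i⟩
    refine ⟨t, ht, fun b => (hV hy hN ht hx h4 b).trans ?_⟩
    rw [dotProduct_smul, dotProduct_smul, smul_eq_mul, smul_eq_mul, _root_.zpow_mul, _root_.zpow_mul, zpow_natCast, hr]
  have h3 : ∀ ν, (∀ b : {b // Adm ((l : ℤ) ^ E) (Cm X) (Qm X) b}, (l : ℤ) ^ E ∣ b.1 ⬝ᵥ ν) →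
      ν ∈ S1 ((l : ℤ) ^ E) (Cm X) (Qm (X.conj hy hN)) := fun ν h => dual hM fun b hb => h ⟨b, (adm_conj X hy hN).1 hb⟩
  refine ⟨fun g hg => ?_, fun t e ζ v ν ht hζ hx hv => ?_, fun u D hu hD h _ => ?_⟩
  · obtain ⟨ν, h4⟩ := h1 ⟨g, hg⟩
    obtain ⟨t, ht, h5⟩ := h2 ν
    exact ⟨t, ht, (hH (⟨g, hg⟩ * ⟨t, hG hy hN ht⟩⁻¹)).2 fun b => by rw [map_mul, map_inv, h4, h5, mul_inv_cancel]⟩
  · have h4 : ∀ b, μ b ⟨t, hG hy hN ht⟩ = 1 ↔ (l : ℤ) ^ E ∣ b.1 ⬝ᵥ ν := fun b => by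
      obtain ⟨j, h5, h6⟩ := (hμ b y hy hN).val (hA y hy hN b) ht.1 (hG hy hN ht) hx hv
      rw [h5, ← orderOf_dvd_iff_zpow_eq_one, hζ, Nat.cast_pow, ← mul_dvd_mul_iff_left hM, h6, mul_comm,
        mul_dvd_mul_iff_left (pow_ne_zero _ hl'.ne_zero)]
    refine (hH ⟨t, hG hy hN ht⟩).trans ((forall_congr' h4).trans ⟨fun h => ?_, fun ⟨s', β, ν', hs', h⟩ b => ?_⟩)
    · obtain ⟨β, la, ν', rfl⟩ := mem_S1.1 (h3 ν h)
      obtain ⟨β', h5⟩ := hE la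
      refine ⟨s, s • β + β', s • ν', hs, ?_⟩
      rw [add_vecMul, h5, smul_vecMul, mulVec_smul, smul_add, smul_add, smul_sub, smul_comm s]
    · have h5 := ((adm_conj X hy hN).2 b.2).dvd β ν'
      rw [← h, dotProduct_smul] at h5
      exact (hl'.coprime_iff_not_dvd.2 hs').pow_left.dvd_of_dvd_mul_left h5
  · obtain ⟨δ, h4, h5⟩ := delta (X := X.conj hy hN) hl hp hs hE hu hD fun g hg => cen_conj (h g hg) hy hN
    choose τ hτ h6 using h2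
    have := X.amb.finite_GF G
    refine count hM (Qm_R (X.conj hy hN)) δ h4 h5 (fun ν => ⟨τ ν, hG hy hN (hτ ν)⟩) fun ν ν' h7 => h3 _ fun b => ?_
    have h8 := (hH (⟨τ ν, hG hy hN (hτ ν)⟩⁻¹ * ⟨τ ν', hG hy hN (hτ ν')⟩)).1 h7 b
    rwa [map_mul, map_inv, h6, h6, ← _root_.zpow_neg, ← _root_.zpow_add, hξ.zpow_eq_one_iff_dvd, neg_add_eq_sub, ← dotProduct_sub,
      Nat.cast_pow] at h8

end Cfsg.Agent.BZ.TA
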