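import Cfsg.Agent.BZ.L.TA.Om
import Cfsg.Agent.LieRecognition.CoxClass

/-!
# BZ / L / TA : the classification of the Cartan matrices, `boxCl` (helper67)
-/

set_option autoImplicit false
set_option linter.unusedSectionVars false

namespace Cfsg.Agent.BZ.TA

open Matrix Cfsg.Agent.LieRecognition Cfsg.Agent.LieRecognition.CoxClass

namespace Cl

variable {I : Type} [Fintype I] [DecidableEq I] {C : Matrix I I ℤ} {d : I → ℤ}

/-- a positive definite integral form is positive definite over the reals -/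
theorem real_pos (S : Matrix I I ℤ) (hs : ∀ i j, S i j = S j i) (h : ∀ β : I → ℤ, β ≠ 0 → 0 < β ⬝ᵥ S *ᵥ β) (x : I → ℝ)
    (hx : x ≠ 0) : 0 < x ⬝ᵥ S.map (Int.castRingHom ℝ) *ᵥ x := by
  have h1 : (S.map (Int.castRingHom ℝ)).PosSemidef := by
    refine .of_dotProduct_mulVec_nonneg (Matrix.ext fun i j => by simp [hs i j]) fun y => ?_
    refine (DenseRange.piMap fun _ : I => Rat.denseRange_cast (𝕜 := ℝ)).induction_on y
      (isClosed_le continuous_const (by fun_prop)) fun a => ?_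
    obtain ⟨⟨b, hb⟩, h2⟩ := IsLocalization.exist_integer_multiples_of_finite (nonZeroDivisors ℤ) a
    choose β hβ using h2
    have h3 : (0 : ℤ) ≤ β ⬝ᵥ S *ᵥ β := by
      by_cases k : β = 0
      · simp [k]
      · exact (h β k).le
    have h4 : ∀ i, (β i : ℝ) = b * a i := fun i => by
      have k : (β i : ℚ) = b * a i := by simpa using hβ i
      exact_mod_cast congrArg (Rat.cast (K := ℝ)) k
    have h5 : (0 : ℝ) < (b : ℝ) ^ 2 := by
      have := nonZeroDivisors.ne_zero hb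
      positivity
    refine nonneg_of_mul_nonneg_right (le_of_le_of_eq (Int.cast_nonneg (R := ℝ) h3) ?_) h5
    simp only [dotProduct, mulVec, star_trivial, map_apply, Pi.map_apply, eq_intCast, Finset.mul_sum]
    push_cast
    refine Finset.sum_congr rfl fun i _ => Finset.sum_congr rfl fun j _ => ?_
    rw [h4, h4]
    ring
  have h2 : S.det ≠ 0 := fun k => by
    obtain ⟨v, h3, h4⟩ := Matrix.exists_mulVec_eq_zero_iff.2 k
    simpa [h4] using h v h3
  have h3 := h1.posDef_iff_det_ne_zero.2 (by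
    rw [← RingHom.mapMatrix_apply, ← RingHom.map_det]
    simpa using h2)
  simpa using h3.dotProduct_mulVec_pos hx

theorem prod_lt (h : Car C d) {i j : I} (hij : i ≠ j) : C i j * C j i < 4 := by
  have h1 := h.pos (Pi.single i (-C j i) + Pi.single j 2) fun k => by simpa [hij.symm] using congrFun k j
  rw [Finset.sum_eq_add i j hij (fun k _ hk => by simp [hk.1, hk.2]) (by simp) (by simp)] at h1
  simp only [add_vecMul, single_vecMul, Pi.add_apply, Pi.single_eq_same, Pi.single_eq_of_ne hij, Pi.single_eq_of_ne hij.symm,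
    Pi.smul_apply, row, smul_eq_mul, h.diag] at h1
  have h2 := h.dpos j
  nlinarith

theorem ent (h : Car C d) {i j : I} (hij : i ≠ j) : (C i j = 0 ∧ C j i = 0) ∨ (C i j = -1 ∧ C j i = -1) ∨
    (C i j = -1 ∧ C j i = -2) ∨ (C i j = -2 ∧ C j i = -1) ∨ (C i j = -1 ∧ C j i = -3) ∨ (C i j = -3 ∧ C j i = -1) := by
  have h1 := prod_lt h hij
  have h2 := h.off i j hij
  have h3 := h.off j i hij.symm
  have h4 := h.sym i j
  have h5 := h.dpos i
  have h6 := h.dpos j
  generalize C i j = a at *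
  generalize C j i = b at *
  by_cases ha : a = 0
  · exact .inl ⟨ha, (mul_eq_zero.1 (by rw [← h4, ha, mul_zero] : d i * b = 0)).resolve_left h5.ne'⟩
  have hb : b ≠ 0 := fun k => ha ((mul_eq_zero.1 (by rw [h4, k, mul_zero] : d j * a = 0)).resolve_left h6.ne')
  have h7 : -4 < a := by nlinarith [show b ≤ -1 by omega]
  have h8 : a < 0 := by omega
  interval_cases a <;> omega

/-- the label -/
def lab (P : ℤ) : ℕ := if P = 0 then 2 else if P = 1 then 3 else if P = 2 then 4 else 6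

/-- the Coxeter matrix -/
def cox (C : Matrix I I ℤ) : CoxeterMatrix I where
  M := of fun i j => if i = j then 1 else lab (C i j * C j i)
  isSymm := Matrix.ext fun i j => by simp only [transpose_apply, of_apply, eq_comm, mul_comm]
  diagonal i := if_pos rfl
  off_diagonal i j h := by
    rw [of_apply, if_neg h, lab]
    split_ifs <;> decide

theorem ent' (h : Car C d) {i j : I} (hij : i ≠ j) : (cox C i j = 2 ∧ C i j = 0 ∧ C j i = 0) ∨
    (cox C i j = 3 ∧ C i j = -1 ∧ C j i = -1) ∨ (cox C i j = 4 ∧ (C i j = -1 ∧ C j i = -2 ∨ C i j = -2 ∧ C j i = -1)) ∨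
    (cox C i j = 6 ∧ (C i j = -1 ∧ C j i = -3 ∨ C i j = -3 ∧ C j i = -1)) := by
  have h1 : cox C i j = lab (C i j * C j i) := if_neg hij
  rcases ent h hij with k | k | k | k | k | k <;> simp [h1, k.1, k.2, lab]

theorem K_eq (h : Car C d) (i j : I) : 2 * CoxForm.K (cox C) i j * (√(d i) * √(d j)) = (d i * C j i : ℤ) := by
  have hi : (0 : ℝ) < d i := by exact_mod_cast h.dpos i
  have hj : (0 : ℝ) < d j := by exact_mod_cast h.dpos j
  by_cases hij : i = j
  · subst hij
    rw [CoxForm.K_self, Real.mul_self_sqrt hi.le, h.diag]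
    push_cast
    ring
  have h1 : CoxForm.K (cox C) i j ≤ 0 ∧ (2 * CoxForm.K (cox C) i j) ^ 2 = (C i j * C j i : ℤ) := by
    have s2 := Real.sq_sqrt (show (0 : ℝ) ≤ 2 by norm_num)
    have s3 := Real.sq_sqrt (show (0 : ℝ) ≤ 3 by norm_num)
    rcases ent' h hij with ⟨k, k1, k2⟩ | ⟨k, k1, k2⟩ | ⟨k, ⟨k1, k2⟩ | ⟨k1, k2⟩⟩ | ⟨k, ⟨k1, k2⟩ | ⟨k1, k2⟩⟩ <;>
      simp only [CoxForm.K, k, k1, k2] <;> norm_num [mul_pow, div_pow] <;> positivity
  have h2 : ((d j : ℝ) * C i j) = d i * C j i := by exact_mod_cast h.sym i j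
  have h3 : (C j i : ℝ) ≤ 0 := by exact_mod_cast h.off j i (Ne.symm hij)
  refine neg_injective ((sq_eq_sq₀ (neg_nonneg.2 (mul_nonpos_of_nonpos_of_nonneg (by linarith [h1.1]) (by positivity)))
    (by push_cast; nlinarith)).1 ?_)
  rw [neg_sq, neg_sq, mul_pow, h1.2, mul_pow, Real.sq_sqrt hi.le, Real.sq_sqrt hj.le]
  push_cast
  linear_combination (d i * C j i : ℝ) * h2

theorem q_pos (h : Car C d) (x : I → ℝ) (hx : x ≠ 0) : 0 < CoxForm.q (cox C) x := by
  have h0 : ∀ i, √(d i : ℝ) ≠ 0 := fun i => (Real.sqrt_pos.2 (by exact_mod_cast h.dpos i)).ne'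
  have h1 := real_pos (of fun i j => d i * C j i) (fun i j => (h.sym i j).symm) (fun β hβ => (h.pos β hβ).trans_eq (by
    simp only [dotProduct, mulVec, vecMul, of_apply, Finset.mul_sum]
    exact Finset.sum_congr rfl fun i _ => Finset.sum_congr rfl fun j _ => by ring)) (fun i => x i / √(d i))
    fun k => hx (funext fun i => (div_eq_zero_iff.1 (congrFun k i)).resolve_right (h0 i))
  refine pos_of_mul_pos_left (b := 2) (h1.trans_eq ?_) zero_le_two
  simp only [dotProduct, mulVec, map_apply, of_apply, eq_intCast, CoxForm.q, CoxForm.fn_apply, Finset.mul_sum, Finset.sum_mul]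
  refine Finset.sum_congr rfl fun i _ => Finset.sum_congr rfl fun j _ => ?_
  rw [← K_eq h]
  field_simp [h0 i, h0 j]

theorem conn {J : Set I} {a b : I} (h : Cp C a b) (ha : a ∈ J) (hb : b ∉ J) : ∃ a ∈ J, ∃ b ∈ Jᶜ, C a b ≠ 0 := by
  induction h with
  | refl => exact absurd ha hb
  | @tail u v _ h2 ih =>
    by_cases k : u ∈ J
    exacts [⟨u, k, v, hb, h2⟩, ih k]

theorem val (h : Car C d) {n : ℕ} {v : Fin n ≃ I} {m : ℕ → ℕ → ℕ} (hL : Lab (cox C) v m) (i j : Fin n) :
    ((i : ℕ) = j ∧ C (v i) (v j) = 2) ∨ ((i : ℕ) ≠ j ∧ (m i j = 2 ∧ C (v i) (v j) = 0 ∨ m i j = 3 ∧ C (v i) (v j) = -1 ∨ 4 ≤ m i j)) := by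
  by_cases k : i = j
  · exact .inl ⟨congrArg _ k, k ▸ h.diag _⟩
  · have h1 := ent' h (v.injective.ne k)
    rw [hL] at h1
    exact .inr ⟨fun e => k (Fin.ext e), by omega⟩

theorem four (h : Car C d) {n : ℕ} {v : Fin n ≃ I} {m : ℕ → ℕ → ℕ} (hL : Lab (cox C) v m) (i j : Fin n) (h4 : m i j = 4) :
    C (v i) (v j) = -1 ∧ C (v j) (v i) = -2 ∨ C (v i) (v j) = -2 ∧ C (v j) (v i) = -1 := by
  by_cases k : i = j
  · have h1 := hL i j
    rw [h4, k, (cox C).diagonal] at h1
    omega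
  · have h1 := ent' h (v.injective.ne k)
    rw [hL] at h1
    omega

theorem tE (h : Car C d) {n : ℕ} {v : Fin n ≃ I} (hL : Lab (cox C) v (mE n)) : Ty C n (cT 2 n) := ⟨v, fun i j => by
  have h1 := val h hL i j
  unfold mE at h1
  unfold cT
  split_ifs at h1 ⊢ <;> omega⟩

/-- type `F₄` -/
def cF (x y : ℤ) (i j : ℕ) : ℤ := if i = 1 ∧ j = 2 then x else if i = 2 ∧ j = 1 then y else cA i j

/-- rank two -/
def c2 (x y : ℤ) (i j : ℕ) : ℤ := if i = j then 2 else if i = 0 then x else y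

theorem tF (h : Car C d) {v : Fin 4 ≃ I} (hL : Lab (cox C) v mF) : Ty C 4 (cF (C (v 1) (v 2)) (C (v 2) (v 1))) :=
  ⟨v, fun i j => by
    have h1 := val h hL i j
    unfold mF at h1
    unfold cF cA
    split_ifs at h1 ⊢ <;> first | omega | (congr 2 <;> ext <;> simp <;> omega)⟩

theorem t2 (h : Car C d) (v : Fin 2 ≃ I) : Ty C 2 (c2 (C (v 0) (v 1)) (C (v 1) (v 0))) := ⟨v, fun i j => by
  fin_cases i <;> fin_cases j <;> simp [c2, h.diag]⟩

theorem Ty.congr {n : ℕ} {c c' : ℕ → ℕ → ℤ} (h : Ty C n c) (hc : ∀ i j : Fin n, c i j = c' i j) : Ty C n c' :=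
  let ⟨e, he⟩ := h
  ⟨e, fun i j => (he i j).trans (hc i j)⟩

end Cl

open Cl in
/-- **the classification** -/
theorem boxCl : BoxCl := by
  intro I _ _ _ C d h hc
  by_cases h3 : 3 ≤ Fintype.card I
  · rcases classify (cox C) (q_pos h) (fun a b k => by have := ent' h k; omega) (fun a b => by
        by_cases k : a = b
        · rw [k, (cox C).diagonal]; decide
        · have := ent' h k; omega) (fun J ⟨a, ha⟩ ⟨b, hb⟩ => by
        obtain ⟨u, hu, v, hv, k⟩ := conn (hc a b) ha hb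
        have := ent' h (show u ≠ v from fun e => hv (e ▸ hu))
        exact ⟨u, hu, v, hv, by omega⟩) h3 with
      ⟨n, v, hn, hL⟩ | ⟨n, v, hn, hL⟩ | ⟨n, v, hn, hL⟩ | ⟨v, hL⟩ | ⟨v, hL⟩ | ⟨v, hL⟩ | ⟨v, hL⟩
    · refine .inl ⟨n, v, fun i j => ?_⟩
      have h1 := val h hL i j
      unfold mA at h1
      unfold cA
      split_ifs at h1 ⊢ <;> omega
    · obtain ⟨m, rfl⟩ : ∃ m, n = m + 2 := ⟨n - 2, by omega⟩
      have k1 : ∀ i j : Fin (m + 2), (i : ℕ) = m → (j : ℕ) = m + 1 → C (v i) (v j) = C (v ⟨m, by omega⟩) (v ⟨m + 1, by omega⟩) ∧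
          C (v j) (v i) = C (v ⟨m + 1, by omega⟩) (v ⟨m, by omega⟩) := fun i j a b => by
        rw [show i = ⟨m, by omega⟩ from Fin.ext a, show j = ⟨m + 1, by omega⟩ from Fin.ext b]
        exact ⟨rfl, rfl⟩
      rcases four h hL ⟨m, by omega⟩ ⟨m + 1, by omega⟩ (by simp [mC]) with k | k
      · refine .inr (.inl ⟨_, by omega, v, fun i j => ?_⟩)
        have h1 := val h hL i j
        have h2 := k1 i j
        have h4 := k1 j i
        unfold mC at h1
        unfold cB cA
        split_ifs at h1 ⊢ <;> omega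
      · refine .inr (.inr (.inl ⟨_, by omega, v, fun i j => ?_⟩))
        have h1 := val h hL i j
        have h2 := k1 i j
        have h4 := k1 j i
        unfold mC at h1
        unfold cC cB cA
        split_ifs at h1 ⊢ <;> omega
    · refine .inr (.inr (.inr (.inl ⟨n, hn, v, fun i j => ?_⟩)))
      have h1 := val h hL i j
      unfold mD at h1
      unfold cT
      split_ifs at h1 ⊢ <;> omega
    · exact .inr (.inr (.inr (.inr (.inl (tE h hL)))))
    · exact .inr (.inr (.inr (.inr (.inr (.inl (tE h hL))))))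
    · exact .inr (.inr (.inr (.inr (.inr (.inr (Om.ex_cert (tE h hL) [[4, 7, 10, 8, 6, 4, 2, 5], [7, 14, 20, 16, 12, 8, 4, 10],
        [10, 20, 30, 24, 18, 12, 6, 15], [8, 16, 24, 20, 15, 10, 5, 12], [6, 12, 18, 15, 12, 8, 4, 9], [4, 8, 12, 10, 8, 6, 3, 6],
        [2, 4, 6, 5, 4, 3, 2, 3], [5, 10, 15, 12, 9, 6, 3, 8]] (by decide +kernel)))))))
    · have h1 := tF h hL
      refine .inr (.inr (.inr (.inr (.inr (.inr ?_)))))
      rcases four h hL 1 2 rfl with k | k <;> rw [k.1, k.2] at h1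
      · exact Om.ex_cert h1 [[2, 3, 2, 1], [3, 6, 4, 2], [4, 8, 6, 3], [2, 4, 3, 2]] (by decide +kernel)
      · exact Om.ex_cert h1 [[2, 3, 4, 2], [3, 6, 8, 4], [2, 4, 6, 3], [1, 2, 3, 2]] (by decide +kernel)
  · have h0 : 0 < Fintype.card I := Fintype.card_pos
    obtain k | k : Fintype.card I = 1 ∨ Fintype.card I = 2 := by omega
    · refine .inl ⟨1, (Fintype.equivFinOfCardEq k).symm, fun i j => ?_⟩
      rw [Subsingleton.elim j i, h.diag]
      exact (if_pos rfl).symm
    · let v := (Fintype.equivFinOfCardEq k).symm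
      have h1 := t2 h v
      have h2 : v 0 ≠ v 1 := v.injective.ne (by decide)
      rcases ent h h2 with e | e | e | e | e | e <;> rw [e.1, e.2] at h1
      · obtain ⟨_, rfl, b, hb, k'⟩ := conn (J := {v 0}) (hc (v 0) (v 1)) rfl h2.symm
        obtain ⟨j, rfl⟩ := v.surjective b
        fin_cases j
        exacts [absurd rfl hb, absurd e.1 k']
      · exact .inl ⟨2, Ty.congr h1 (by decide)⟩
      · exact .inr (.inl ⟨2, le_rfl, Ty.congr h1 (by decide)⟩)
      · exact .inr (.inr (.inl ⟨2, le_rfl, Ty.congr h1 (by decide)⟩))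
      · exact .inr (.inr (.inr (.inr (.inr (.inr (Om.ex_cert h1 [[2, 1], [3, 2]] (by decide)))))))
      · exact .inr (.inr (.inr (.inr (.inr (.inr (Om.ex_cert h1 [[2, 3], [1, 2]] (by decide)))))))

end Cfsg.Agent.BZ.TA
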