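import Cfsg.Agent.BZ.L.TA.Defs

/-!
# BZ / L / TA : the fixed points of the adjoint torus lift (helper60)

`LatA.exists_fix` : Lang in the connected centre; `boxLat : BoxLat`.
-/

set_option autoImplicit false
set_option linter.unusedSectionVars false

namespace Cfsg.Agent.BZ.TA

open Cfsg Cfsg.Agent.DL Cfsg.Agent.DL.PP Cfsg.Agent.HZ.L.Reg Matrix Cfsg.Agent.Tits.Roots

namespace LatA

variable {p : ℕ} [Fact p.Prime] {k : Type} [Field k] [CharP k p] {Y : Type} [Group Y] {N : Type} [Fintype N]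
  [DecidableEq N] {ρ : Y →* GL N k} {F : MulAut Y} {G : Subgroup Y} [IsAlgClosed k] {X : Datum p ρ F G}

/-- lifts of the same order -/
theorem exists_lift (hZ : CZ X) (s : X.I → kˣ) : ∃ c, al X c = s ∧ ∀ n : ℕ, s ^ n = 1 → c ^ n = 1 := by
  obtain ⟨m, ϖ, hϖ⟩ := hZ
  obtain ⟨s, rfl⟩ := exists_pow_eq (n := (p : ℤ) ^ m) (pow_ne_zero _ (Nat.cast_ne_zero.2 (Fact.out : p.Prime).ne_zero)) s
  refine ⟨∏ i, coch (ϖ i) (s i), funext fun i => ?_, fun n hn => ?_⟩
  · show chr (X.wt (sr i)) _ = _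
    rw [map_prod, Finset.prod_congr rfl fun j _ => by rw [chr_coch, show ∑ a, X.wt (sr i) a * ϖ j a = _ from hϖ _ j],
      Finset.prod_eq_single i (fun j _ hj => by rw [sr_ne hj, mul_zero, zpow_zero]) (by simp), sr_self, mul_one]
    rfl
  · rw [← Finset.prod_pow, Finset.prod_eq_one fun i _ => ?_]
    have h2 : (s i ^ (p : ℤ) ^ m) ^ n = 1 := congrFun hn i
    rw [← Nat.cast_pow, zpow_natCast, ← pow_mul, mul_comm, pow_mul, Units.ext_iff, Units.val_pow_eq_pow_val] at h2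
    rw [← map_pow, show s i ^ n = 1 from Units.ext (iterateFrobenius_inj k p m (h2.trans (map_one _).symm)), map_one]

/-- **the fixed points of the adjoint torus lift to fixed points** -/
theorem exists_fix (hZ : CZ X) {s : X.I → kˣ} (hs : mon (Qm X) s = s) : ∃ c, al X c = s ∧ mon X.Mx c = c := by
  obtain ⟨d, e, H⟩ := X.exists_split'
  have hT : Mk.Tor F d (p ^ e) ((al X).ker.map X.τ) :=
    { two_le := Nat.one_lt_pow H.e_pos.ne' (Fact.out : p.Prime).one_lt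
      comm := by
        rintro _ ⟨a, -, rfl⟩ _ ⟨b, -, rfl⟩
        rw [← map_mul, mul_comm, map_mul]
      maps := by
        rintro _ ⟨a, ha, rfl⟩
        exact ⟨mon X.Mx a, by rw [SetLike.mem_coe, MonoidHom.mem_ker, al_mon, show al X a = 1 from ha, map_one], (X.F_τ a).symm⟩
      frob := by
        rintro _ ⟨a, -, rfl⟩
        exact H.T (X.τ_mem a)
      div := by
        rintro _ ⟨a, ha, rfl⟩ n hn
        obtain ⟨r, rfl⟩ := exists_pow_eq (n := (n : ℤ)) (Nat.cast_ne_zero.2 hn) a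
        obtain ⟨r', h2, h3⟩ := exists_lift hZ (al X r)
        refine ⟨_, ⟨r * r'⁻¹, by rw [SetLike.mem_coe, MonoidHom.mem_ker, map_mul, map_inv, h2, mul_inv_cancel], rfl⟩, ?_⟩
        rw [← map_pow, mul_pow, inv_pow, h3 n (by rw [← map_pow, ← zpow_natCast]; exact ha), inv_one, mul_one, zpow_natCast] }
  obtain ⟨t, ht, -⟩ := exists_lift hZ s
  obtain ⟨_, ⟨b, hb, rfl⟩, e⟩ := hT.lang (t := X.τ (t * (mon X.Mx t)⁻¹))
    ⟨_, by rw [SetLike.mem_coe, MonoidHom.mem_ker, map_mul, map_inv, al_mon, ht, hs, mul_inv_cancel], rfl⟩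
  rw [X.F_τ, ← map_inv X.τ, ← map_mul] at e
  refine ⟨b⁻¹ * t, by rw [map_mul, map_inv, show al X b = 1 from hb, inv_one, one_mul, ht], ?_⟩
  rw [map_mul, map_inv]
  calc _ = b⁻¹ * (t * (mon X.Mx t)⁻¹) * mon X.Mx t := by rw [X.τ_inj e]; group
    _ = _ := by group

end LatA

/-- **the lift** -/
theorem boxLat : BoxLat := by
  intro p _ k _ _ Y _ N _ _ ρ F G _ X hZ s e ζ v hs _ hζ hv
  obtain ⟨c, h1, h2⟩ := LatA.exists_fix hZ (s := coch v ζ) (funext fun i => by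
    rw [mon_coch, coch_apply, coch_apply, zpow_eq_zpow_iff_modEq, hζ, Nat.cast_pow]
    exact (Int.modEq_iff_dvd.2 (hv i)).symm)
  have := X.amb.finite_GF G
  have h3 : F (X.τ c) = X.τ c := by rw [X.F_τ, h2]
  have h4 : orderOf (⟨X.τ c, X.T_le_G (X.τ_mem c), h3⟩ : GF F G) ≠ 0 := (orderOf_pos _).ne'
  rw [← Subgroup.orderOf_coe] at h4
  obtain ⟨j, u, hu, h5⟩ := Nat.exists_eq_pow_mul_and_not_dvd h4 s hs.ne_one
  obtain ⟨x, hx⟩ := dvd_pow_self u (Nat.totient_pos.2 (pow_pos hs.pos e)).ne'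
  refine ⟨X.τ c ^ (u * x), ⟨pow_mem (X.τ_mem c) _, by rw [map_pow, h3], j, ?_⟩, fun a => ?_⟩
  · rw [← pow_mul, ← orderOf_dvd_iff_pow_eq_one]
    exact h5.dvd.trans ⟨x, by ring⟩
  · have h6 : ζ ^ (u * x) = ζ := by
      rw [← hx]
      conv_rhs => rw [← pow_one ζ]
      rw [pow_eq_pow_iff_modEq, hζ]
      exact Nat.ModEq.pow_totient (((Nat.Prime.coprime_iff_not_dvd hs).2 hu).symm.pow_right e)
    rw [← map_pow, X.χ_τ, ← chr_al, map_pow, h1, ← map_pow, h6, chr_coch]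
    rfl

end Cfsg.Agent.BZ.TA
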