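import Mathlib

/-!
# BZ / L / TA : the lattice lemma, statements (helper91)

`Λ = I → ℤ` is the coweight lattice (values at the simple roots), `β ᵥ* C` is the coroot lattice, `c • B` is the Frobenius map,
`v / l ^ e` with `Vv l c B e v` are the fixed points of the adjoint torus.  Paper proofs: `notes/BZ/plan-L.md`.
-/

set_option autoImplicit false

namespace Cfsg.Agent.BZ.TA

open Matrix

section defs

variable {I : Type} [Fintype I] [DecidableEq I]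

/-- all coordinates are divisible by `n` -/
def Dz (n : ℤ) (v : I → ℤ) : Prop := ∀ i, n ∣ v i

/-- a Cartan matrix of finite type with a symmetriser -/
structure Car (C : Matrix I I ℤ) (d : I → ℤ) : Prop where
  diag : ∀ i, C i i = 2
  off : ∀ i j, i ≠ j → C i j ≤ 0
  dpos : ∀ i, 0 < d i
  sym : ∀ i j, d j * C i j = d i * C j i
  pos : ∀ β : I → ℤ, β ≠ 0 → 0 < ∑ i, β i * d i * (β ᵥ* C) i

/-- an isometry of finite order which preserves the coroot lattice -/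
structure Au (C : Matrix I I ℤ) (d : I → ℤ) (B : Matrix I I ℤ) : Prop where
  fin : ∃ n, 0 < n ∧ B ^ n = 1
  iso : ∀ β : I → ℤ, ∃ β' : I → ℤ, B *ᵥ (β ᵥ* C) = β' ᵥ* C ∧ ∀ v, ∑ i, β' i * d i * (B *ᵥ v) i = ∑ i, β i * d i * v i

/-- `v / l ^ e` is a fixed point -/
def Vv (l : ℕ) (c : ℤ) (B : Matrix I I ℤ) (e : ℕ) (v : I → ℤ) : Prop := Dz ((l : ℤ) ^ e) (c • (B *ᵥ v) - v)

/-- the action of an element outside the toral subgroup -/
structure Kd (l : ℕ) (c : ℤ) (C B w : Matrix I I ℤ) : Prop where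
  wr : ∀ v, ∃ β, w *ᵥ v - v = β ᵥ* C
  nm : ∀ e v, Vv l c B e v → Dz ((l : ℤ) ^ e) (∑ i ∈ Finset.range l, (w ^ i) *ᵥ v)
  dl : ∀ e v β, Vv l c B e v → w *ᵥ v - v = (l : ℤ) ^ e • (β ᵥ* C) → Dz ((l : ℤ) ^ e) v
  fw : ∀ e v, Vv l c B e v → ∃ β, B *ᵥ (w *ᵥ v) - w *ᵥ (B *ᵥ v) = (l : ℤ) ^ e • (β ᵥ* C)
  el : ∃ s : ℤ, ¬ (l : ℤ) ∣ s ∧ ∀ μ, ∃ β ν, (s * l) • μ = β ᵥ* C + (c • (B *ᵥ ν) - ν)

/-- the fixed points of the simply connected torus are central -/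
def Kc (l : ℕ) (c : ℤ) (C B : Matrix I I ℤ) : Prop :=
  ∀ (e : ℕ) (v β : I → ℤ), c • (B *ᵥ v) - v = (l : ℤ) ^ e • (β ᵥ* C) → Dz ((l : ℤ) ^ e) v

/-- no eigenvalue one -/
def Ell (B : Matrix I I ℤ) : Prop := ∀ v, B *ᵥ v = v → v = 0

/-- the fixed space modulo `l` has dimension at least `j` -/
def Rk (l : ℕ) (B : Matrix I I ℤ) (j : ℕ) : Prop := ∃ f : Fin j → I → ℤ, (∀ i, Vv l 1 B 1 (f i)) ∧
  ∀ a : Fin j → ℤ, Dz l (∑ i, a i • f i) → ∀ i, (l : ℤ) ∣ a i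

/-- `B` acts trivially on the elements of order `l` of the fundamental group -/
def Tv (l : ℕ) (C B : Matrix I I ℤ) : Prop := ∀ μ β, (l : ℤ) • μ = β ᵥ* C → ∃ β', B *ᵥ μ - μ = β' ᵥ* C

/-- the components -/
def Cp (C : Matrix I I ℤ) : I → I → Prop := Relation.ReflTransGen fun i j => C i j ≠ 0

/-- supported on the component of `i` -/
def Su (C : Matrix I I ℤ) (i : I) (v : I → ℤ) : Prop := ∀ j, ¬ Cp C i j → v j = 0

/-- the type of `C` -/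
def Ty (C : Matrix I I ℤ) (n : ℕ) (c : ℕ → ℕ → ℤ) : Prop := ∃ e : Fin n ≃ I, ∀ i j, C (e i) (e j) = c i j

/-- the fundamental group has exponent dividing `n` -/
def Ex (C : Matrix I I ℤ) (n : ℤ) : Prop := ∀ v : I → ℤ, ∃ β, n • v = β ᵥ* C

/-- the fundamental group is generated by two elements -/
def G2 (C : Matrix I I ℤ) (μ μ' : I → ℤ) : Prop := ∀ v : I → ℤ, ∃ (a b : ℤ) (β : I → ℤ), v = a • μ + b • μ' + β ᵥ* C

end defs

/-- the modulus -/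
def lm (l : ℕ) : ℤ := if l = 2 then 4 else l

/-- type `A` -/
def cA (i j : ℕ) : ℤ := if i = j then 2 else if i + 1 = j ∨ j + 1 = i then -1 else 0

/-- type `B` : `C i j` is the value of the coroot `i` at the root `j`, the last root is short -/
def cB (n i j : ℕ) : ℤ := if j + 1 = i ∧ i + 1 = n then -2 else cA i j

/-- type `C` -/
def cC (n i j : ℕ) : ℤ := cB n j i

/-- a path with the last node attached to the node `a` -/
def cT (a n i j : ℕ) : ℤ := if i = j then 2 else if (i + 1 = j ∧ j + 1 < n) ∨ (j + 1 = i ∧ i + 1 < n) ∨ (i = a ∧ j + 1 = n) ∨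
  (j = a ∧ i + 1 = n) then -1 else 0

/-- the classification -/
def BoxCl : Prop := ∀ {I : Type} [Fintype I] [DecidableEq I] [Nonempty I] (C : Matrix I I ℤ) (d : I → ℤ), Car C d → (∀ i j, Cp C i j) →
  (∃ n, Ty C n cA) ∨ (∃ n, 2 ≤ n ∧ Ty C n (cB n)) ∨ (∃ n, 2 ≤ n ∧ Ty C n (cC n)) ∨ (∃ n, 4 ≤ n ∧ Ty C n (cT (n - 3) n)) ∨
    Ty C 6 (cT 2 6) ∨ Ty C 7 (cT 2 7) ∨ Ex C 1

/-- the fundamental groups -/
structure BoxOm : Prop where
  a : ∀ {I : Type} [Fintype I] [DecidableEq I] (C : Matrix I I ℤ) (n : ℕ), Ty C n cA → Ex C (n + 1) ∧ ∃ μ, G2 C μ 0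
  b : ∀ {I : Type} [Fintype I] [DecidableEq I] (C : Matrix I I ℤ) (n : ℕ), 2 ≤ n → Ty C n (cB n) ∨ Ty C n (cC n) → Ex C 2
  d : ∀ {I : Type} [Fintype I] [DecidableEq I] (C : Matrix I I ℤ) (n : ℕ), 4 ≤ n → Ty C n (cT (n - 3) n) →
    Ex C 4 ∧ (Odd n → ∃ μ, G2 C μ 0) ∧ (Even n → Ex C 2 ∧ ∃ μ μ', G2 C μ μ')
  e6 : ∀ {I : Type} [Fintype I] [DecidableEq I] (C : Matrix I I ℤ), Ty C 6 (cT 2 6) → Ex C 3 ∧ ∃ μ, G2 C μ 0
  e7 : ∀ {I : Type} [Fintype I] [DecidableEq I] (C : Matrix I I ℤ), Ty C 7 (cT 2 7) → Ex C 2 ∧ ∃ μ, G2 C μ 0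

/-- the alternating form -/
def BoxAlt : Prop := ∀ {I : Type} [Fintype I] [DecidableEq I] (C B : Matrix I I ℤ) (l : ℕ), l.Prime → Car C 1 → Au C 1 B → Ell B →
  ¬ Rk l B 2 → Kc l 1 C B

/-- type `A` : the Coxeter torus is cyclic -/
def BoxKA : Prop := ∀ {I : Type} [Fintype I] [DecidableEq I] (C B : Matrix I I ℤ) (l n : ℕ), l.Prime → l ≠ 2 → l ∣ n + 1 → Ty C n cA →
  Au C 1 B → Ell B → Tv l C B → ¬ Rk l B 2

/-- type `E₆` -/
def BoxKE : Prop := ∀ {I : Type} [Fintype I] [DecidableEq I] (C B : Matrix I I ℤ), Ty C 6 (cT 2 6) → Au C 1 B → Ell B → Tv 3 C B →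
  Rk 3 B 2 → Rk 3 B 3

/-- types `B`, `C`, `D` : the points of order four -/
def BoxKB : Prop := ∀ {I : Type} [Fintype I] [DecidableEq I] (C B : Matrix I I ℤ) (d : I → ℤ) (n : ℕ), Car C d → Au C d B → Ell B →
  (2 ≤ n ∧ Ty C n (cB n)) ∨ (2 ≤ n ∧ Ty C n (cC n)) ∨ (4 ≤ n ∧ Even n ∧ Ty C n (cT (n - 3) n) ∧ Tv 2 C B) →
  ∀ v, Vv 2 1 B 2 v → Dz 2 v ∨ ∃ β, v = β ᵥ* C

/-- the irreducible case -/
def BoxKI : Prop := ∀ {I : Type} [Fintype I] [DecidableEq I] (C B w : Matrix I I ℤ) (d : I → ℤ) (l : ℕ) (c : ℤ), l.Prime →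
  ¬ (l : ℤ) ∣ c → Car C d → (∀ i j, Cp C i j) → Au C d B → (lm l ∣ c - 1 → Ell B) → (lm l ∣ c + 1 → Ell (-B)) → Kd l c C B w →
  Kc l c C B

/-- **the lattice lemma** -/
def BoxK : Prop := ∀ {I : Type} [Fintype I] [DecidableEq I] (C B w : Matrix I I ℤ) (d : I → ℤ) (l r : ℕ) (c t : ℤ), l.Prime → r.Prime →
  ¬ (l : ℤ) ∣ c → orderOf (t : ZMod r) = orderOf (c : ZMod (if l = 2 then 4 else l)) → Car C d → Au C d B →
  (∀ i, ∃ j, ∀ v, Su C i v → Su C j (B *ᵥ v)) → (∀ i v, Su C i v → Su C i (w *ᵥ v)) → (∀ v, Vv r t B 1 v → Dz r v) → Kd l c C B w →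
  Kc l c C B

end Cfsg.Agent.BZ.TA
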