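import Cfsg.Agent.BZ.L.Lie
import Cfsg.Agent.BZ.L.TA.K
import Cfsg.Agent.HZ.L.Reg.Dat

/-!
# BZ / L / TA : the defect groups of the cuspidal blocks, statements (helper91)

Induction on the number of roots.  `BoxTa1` : toral gives `TA`; `BoxTa2` : regular embedding; `BoxTa3` : the local system; `BoxGrp` : the
group theory, from `BoxH0`, `BoxLat` and the lattice lemma `BoxK`.  Paper proofs: `notes/BZ/plan-L.md`.
-/

set_option autoImplicit false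
set_option linter.unusedSectionVars false

namespace Cfsg.Agent.BZ.TA

open Cfsg Subgroup Cfsg.Agent.HZ.Gen Cfsg.Agent.KM Cfsg.Agent.BZ.Lab Cfsg.Agent.DL Cfsg.Agent.KM.Ht Cfsg.Agent.KM.Tor
  Cfsg.Agent.BZ.L Cfsg.Agent.DL.PP Cfsg.Agent.HZ.L.Reg Cfsg.Agent.Nodes.Reps Matrix Cfsg.Agent.Tits.Roots

section Dat

variable {p : ℕ} [Fact p.Prime] {k : Type} [Field k] [CharP k p] {Y : Type} [Group Y] {N : Type} [Fintype N]
  [DecidableEq N] {ρ : Y →* GL N k} {F : MulAut Y} {G : Subgroup Y} [IsAlgClosed k] (X : Datum p ρ F G)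

/-- the Cartan matrix -/
def Cm : Matrix X.I X.I ℤ := Matrix.of fun i j => X.wt (sr j) ⬝ᵥ X.cw i

/-- the centre -/
abbrev ZG : Subgroup Y := Zc X {a | X.Rt a}

/-- `t` is a fixed `l`-element of the torus -/
def Tl (l : ℕ) (t : Y) : Prop := t ∈ X.T ∧ F t = t ∧ ∃ j : ℕ, t ^ l ^ j = 1

/-- the values of the roots at `t` -/
def Xp (t : Y) (ζ : kˣ) (v : X.I → ℤ) : Prop := ∀ a, X.χ a t = ((ζ ^ (a ⬝ᵥ v) : kˣ) : k)

/-- **the local system** of a fixed `l`-group -/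
structure Sys (l r m : ℕ) (D : Subgroup Y) : Prop where
  le : D ≤ GF F G
  pg : IsPGroup l D
  loc : ∀ x ∈ D, x ∉ ZG X → ∃ y, ∃ (hy : y ∈ G) (hN : y⁻¹ * F y ∈ X.NN), x ∈ (X.conj hy hN).T ∧
    Pt F G m r (X.conj hy hN).T = Pt F G m r (Z0 X ∅) ∧ D ⊓ (X.conj hy hN).cen {x} ≤ (X.conj hy hN).T ∧
    (∃ h ∈ GF F G, ∀ t, Tl (X.conj hy hN) l t → h * t * h⁻¹ ∈ D) ∧
    ((∀ g ∈ D, g * x * g⁻¹ * x⁻¹ ∈ ZG X) → ∀ t, Tl (X.conj hy hN) l t → t ∈ D)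

variable (l r m : ℕ) [Fintype ↥(GF (F ^ m) G)] (α : MulAut ↥(GF (F ^ m) G)) (M : Ideal AlgInt)

/-- the cuspidal stable blocks -/
def Cu (B : Set (IrrCharacter ↥(GF (F ^ m) G))) : Prop :=
  IsPBlock M B ∧ StB α B ∧ Mx r ((Nat.card (Pt F G m r (Z0 X ∅))).factorization r) B

/-- the statement of `BoxTA` -/
def TAp : Prop := ∀ B, Cu X r m α M B → ∃ y, ∃ (hy : y ∈ G) (hN : y⁻¹ * F y ∈ X.NN),
  IsDefectGroup l M B (Pt F G m l (X.conj hy hN).T) ∧ Pt F G m r (X.conj hy hN).T = Pt F G m r (Z0 X ∅)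

/-- a fixed toral defect group -/
def T0p : Prop := ∀ B, Cu X r m α M B → ∃ D, IsDefectGroup l M B D ∧ (∀ x ∈ D, α x = x) ∧
  ∃ y, ∃ (hy : y ∈ G) (hN : y⁻¹ * F y ∈ X.NN), ∀ x ∈ D, (x : Y) ∈ (X.conj hy hN).T

/-- a fixed defect group with a local system -/
def Syp : Prop := ∀ B, Cu X r m α M B → ∃ D, IsDefectGroup l M B D ∧ (∀ x ∈ D, α x = x) ∧ Sys X l r m (D.map (GF (F ^ m) G).subtype)

end Dat

/-- toral defect groups are Sylow subgroups of anisotropic tori -/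
def BoxTa1 : Prop := Unif fun X _ _ l r m _ α M => T0p X l r m α M → TAp X l r m α M

/-- the regular embedding -/
def BoxTa2 : Prop := ∀ j : ℕ, (Unif fun X _ _ l r m _ α M => {a | X.Rt a}.ncard ≤ j → CZ X → T0p X l r m α M) →
  Unif fun X _ _ l r m _ α M => {a | X.Rt a}.ncard ≤ j → T0p X l r m α M

/-- the local system -/
def BoxTa3 : Prop := ∀ j : ℕ, (Unif fun X _ _ l r m _ α M => {a | X.Rt a}.ncard < j → TAp X l r m α M) →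
  Unif fun X _ _ l r m _ α M => {a | X.Rt a}.ncard ≤ j → Syp X l r m α M

/-- the group theory -/
def BoxGrp : Prop := Unif fun {_} _ _ _ _ {Y} _ _ _ _ _ {F} {G} _ X _ _ l r m _ _ _ => CZ X → ∀ D : Subgroup Y, Sys X l r m D →
  ∃ y, ∃ (hy : y ∈ G) (hN : y⁻¹ * F y ∈ X.NN), D ≤ (X.conj hy hN).T

/-- the fixed points of the adjoint torus lift -/
def BoxLat : Prop := AllD fun {p} _ {k} _ _ _ _ _ _ _ _ _ _ _ X => CZ X → ∀ (s e : ℕ) (ζ : kˣ) (v : X.I → ℤ), s.Prime → s ≠ p →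
  orderOf ζ = s ^ e → Dz ((s : ℤ) ^ e) (Qm X *ᵥ v - v) → ∃ t, Tl X s t ∧ Xp X t ζ v

/-- the subgroup generated by the centre and the image of the simply connected group, at the prime `l` -/
def BoxH0 : Prop := AllD fun {p} _ {k} _ _ {Y} _ _ _ _ _ {F} {G} _ X => CZ X → ∀ l : ℕ, l.Prime → l ≠ p → ∃ H : Subgroup Y,
  H ≤ GF F G ∧ ⁅GF F G, GF F G⁆ ≤ H ∧ ZG X ⊓ GF F G ≤ H ∧ ∀ y (hy : y ∈ G) (hN : y⁻¹ * F y ∈ X.NN),
    (∀ g ∈ GF F G, ∃ t, Tl (X.conj hy hN) l t ∧ g * t⁻¹ ∈ H) ∧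
    (∀ (t : Y) (e : ℕ) (ζ : kˣ) (v μ : X.I → ℤ), Tl (X.conj hy hN) l t → orderOf ζ = l ^ e → Xp (X.conj hy hN) t ζ v →
      Qm (X.conj hy hN) *ᵥ v - v = (l : ℤ) ^ e • μ →
      (t ∈ H ↔ ∃ (s : ℤ) (β ν : X.I → ℤ), ¬ (l : ℤ) ∣ s ∧ s • μ = β ᵥ* Cm X + (Qm (X.conj hy hN) *ᵥ ν - ν))) ∧
    ∀ (u : Y) (D : Subgroup Y), Tl (X.conj hy hN) l u → D ≤ GF F G → (∀ g ∈ D, g * u * g⁻¹ * u⁻¹ ∈ ZG X) → IsPGroup l D →
      ((X.conj hy hN).cen {u}).relIndex D ≤ H.relIndex (GF F G)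

/-- the lattice data of a frame -/
def BoxDat : Prop := AllD fun X => ∀ (q n c : ℕ), Cs X q n c →
  ∃ (d : X.I → ℤ) (B : Matrix X.I X.I ℤ) (Wa : X.W →* Matrix X.I X.I ℤ), Car (Cm X) d ∧ Au (Cm X) d B ∧ B ^ n = 1 ∧
    Qm X = (q : ℤ) • B ∧ (∀ i, ∃ j, ∀ v, Su (Cm X) i v → Su (Cm X) j (B *ᵥ v)) ∧ (∀ w, Wa w * Am X = Am X * X.Wm w) ∧
    (∀ w i v, Su (Cm X) i v → Su (Cm X) i (Wa w *ᵥ v)) ∧ ∀ w v, ∃ β, Wa w *ᵥ v - v = β ᵥ* Cm X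

end Cfsg.Agent.BZ.TA
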