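import Mathlib

/-!
# BZ / L / TA : the partition argument (helper37)

Pure group theory: `Loc` is the local system of a finite `l`-group `D`, `Loc.toral` shows that `D` lies in the centre or in a torus.
-/

set_option autoImplicit false

namespace Cfsg.Agent.BZ.TA.Gp

open Subgroup

variable {Y : Type*} [Group Y]

theorem relIndex_le_of_cover {Γ H E : Subgroup Y} [Finite E] (hE : E ≤ Γ) (h : ∀ g ∈ Γ, ∃ t ∈ E, t⁻¹ * g ∈ H) :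
    H.relIndex Γ ≤ H.relIndex E := by
  refine Nat.card_le_card_of_surjective (quotientSubgroupOfEmbeddingOfLE H hE) fun x => ?_
  obtain ⟨g, rfl⟩ := QuotientGroup.mk_surjective x
  obtain ⟨t, ht, h1⟩ := h g g.2
  exact ⟨QuotientGroup.mk ⟨t, ht⟩, by
    rw [quotientSubgroupOfEmbeddingOfLE_apply_mk, QuotientGroup.eq]
    exact h1⟩

theorem le_of_relIndex {A H E : Subgroup Y} [Finite E] (h1 : A ⊓ E ≤ H) (h2 : A.relIndex E ≤ H.relIndex E) : H ⊓ E ≤ A := by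
  have e := relIndex_mul_relIndex (A ⊓ E) (H ⊓ E) E (le_inf h1 inf_le_right) inf_le_right
  rw [inf_relIndex_right, inf_relIndex_right] at e
  have h3 : A.relIndex E ≠ 0 := index_ne_zero_of_finite
  have h4 : H.relIndex E ≠ 0 := index_ne_zero_of_finite
  have h5 : (A ⊓ E).relIndex (H ⊓ E) = 1 := by
    rcases hk : (A ⊓ E).relIndex (H ⊓ E) with _ | _ | k
    · rw [hk, zero_mul] at e
      exact absurd e.symm h3
    · rfl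
    · rw [hk] at e
      have := Nat.pos_of_ne_zero h4
      nlinarith
  exact (relIndex_eq_one.1 h5).trans inf_le_left

theorem mul_pow_mem {A : Subgroup Y} {t g : Y} (ht : t ∈ A) (hg : ∀ a ∈ A, g * a * g⁻¹ ∈ A) (n : ℕ) : (t * g) ^ n * (g ^ n)⁻¹ ∈ A := by
  induction n with
  | zero => simpa using one_mem A
  | succ n ih =>
    have := mul_mem ht (hg _ ih)
    convert this using 1
    rw [pow_succ', pow_succ' g]
    generalize (t * g) ^ n = a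
    group

theorem pow_mem_of_comm {Γ H : Subgroup Y} (hH : ∀ a ∈ Γ, ∀ b ∈ Γ, a * b * a⁻¹ * b⁻¹ ∈ H) {t g : Y} (ht : t ∈ Γ) (hg : g ∈ Γ) (n : ℕ) :
    (t ^ n)⁻¹ * ((t * g) ^ n * (g ^ n)⁻¹) ∈ H := by
  induction n with
  | zero => simpa using one_mem H
  | succ n ih =>
    have h1 : (t * g) ^ n * (g ^ n)⁻¹ ∈ Γ := mul_mem (pow_mem (mul_mem ht hg) n) (inv_mem (pow_mem hg n))
    have h2 := mul_mem ih (hH _ (inv_mem h1) _ hg)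
    convert h2 using 1
    rw [pow_succ' (t * g), pow_succ' g, pow_succ' t]
    generalize (t * g) ^ n = a
    group

/-- the local system -/
structure Loc (l : ℕ) (Γ D H Z : Subgroup Y) (C : Y → Subgroup Y) {ι : Sort*} (T E : ι → Subgroup Y) (An : ι → Prop) : Prop where
  lp : l.Prime
  le : D ≤ Γ
  pg : IsPGroup l D
  zc : ∀ z ∈ Z, ∀ g ∈ Γ, g * z = z * g
  zt : ∀ i, Z ≤ T i
  tc : ∀ i, ∀ y ∈ T i, T i ≤ C y
  cj : ∀ g ∈ Γ, ∀ x, ∀ y ∈ C x, g * y * g⁻¹ ∈ C (g * x * g⁻¹)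
  me : ∀ i t, t ∈ E i ↔ t ∈ T i ∧ t ∈ Γ ∧ ∃ j : ℕ, t ^ l ^ j = 1
  loc : ∀ x ∈ D, x ∉ Z → ∃ i, x ∈ T i ∧ An i ∧ D ⊓ C x ≤ T i ∧ (∃ h ∈ Γ, ∀ t ∈ E i, h * t * h⁻¹ ∈ D) ∧
    ((∀ g ∈ D, g * x * g⁻¹ * x⁻¹ ∈ Z) → E i ≤ D)
  hc : ∀ a ∈ Γ, ∀ b ∈ Γ, a * b * a⁻¹ * b⁻¹ ∈ H
  hz : Z ⊓ Γ ≤ H
  h1 : ∀ i, ∀ g ∈ Γ, ∃ t ∈ E i, g * t⁻¹ ∈ H
  h3 : ∀ i, ∀ u ∈ E i, (∀ g ∈ D, g * u * g⁻¹ * u⁻¹ ∈ Z) → (C u).relIndex D ≤ H.relIndex Γ
  kd : ∀ i, An i → ∀ g ∈ Γ, (∀ t ∈ E i, g * t * g⁻¹ ∈ E i) → g ^ l ∈ Z → (∀ t ∈ E i, (t * g) ^ l ∈ Z) →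
    (∀ t ∈ E i, g ∈ C t → t ∈ Z) → (∀ t ∈ E i, t ^ l ∈ H) → ∀ t ∈ E i, t ∈ H → t ∈ Z

namespace Loc

variable {l : ℕ} {Γ D H Z : Subgroup Y} {C : Y → Subgroup Y} {ι : Sort*} {T E : ι → Subgroup Y} {An : ι → Prop}
  (L : Loc l Γ D H Z C T E An)

include L

theorem el {x : Y} (hx : x ∈ D) : ∃ j : ℕ, x ^ l ^ j = 1 := (L.pg ⟨x, hx⟩).imp fun _ e => congrArg Subtype.val e

theorem self {x : Y} (hx : x ∈ D) (hz : x ∉ Z) : x ∈ C x := by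
  obtain ⟨i, h1, -⟩ := L.loc x hx hz
  exact L.tc i x h1 h1

theorem z_le {x : Y} (hx : x ∈ D) (hz : x ∉ Z) : Z ≤ C x := by
  obtain ⟨i, h1, -⟩ := L.loc x hx hz
  exact (L.zt i).trans (L.tc i x h1)

theorem part_le {x y : Y} (hx : x ∈ D) (hz : x ∉ Z) (hy : y ∈ D ⊓ C x) : D ⊓ C x ≤ D ⊓ C y := by
  obtain ⟨i, -, -, h2, -⟩ := L.loc x hx hz
  exact le_inf inf_le_left (h2.trans (L.tc i y (h2 hy)))

/-- the partition -/
theorem part {x y : Y} (hx : x ∈ D) (hz : x ∉ Z) (hy : y ∈ D ⊓ C x) (hz' : y ∉ Z) : D ⊓ C x = D ⊓ C y :=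
  le_antisymm (L.part_le hx hz hy) (L.part_le hy.1 hz' (L.part_le hx hz hy ⟨hx, L.self hx hz⟩))

theorem inf_le {x y : Y} (hx : x ∈ D) (hz : x ∉ Z) (hy : y ∈ D) (h : y ∉ C x) {a : Y} (ha : a ∈ D ⊓ C x) (ha' : a ∈ C y) : a ∈ Z := by
  by_contra h1
  have h2 : y ∉ Z := fun h3 => h (L.z_le hx hz h3)
  have h3 := (L.part hx hz ha h1).trans (L.part hy h2 ⟨ha.1, ha'⟩ h1).symm
  exact h (h3.ge ⟨hy, L.self hy h2⟩).2

theorem h_conj {a g : Y} (ha : a ∈ Γ) (hg : g ∈ Γ) (h : g ∈ H) : a * g * a⁻¹ ∈ H := by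
  simpa using mul_mem (L.hc a ha g hg) h

theorem exists_u [Finite D] (h : ¬ D ≤ Z) : ∃ u ∈ D, u ∉ Z ∧ ∀ g ∈ D, g * u * g⁻¹ * u⁻¹ ∈ Z := by
  have := Fact.mk L.lp
  have hn : (Z.subgroupOf D).Normal := ⟨fun z hz g => by
    rw [mem_subgroupOf] at hz ⊢
    rw [coe_mul, coe_mul, L.zc _ hz _ (L.le g.2), Subgroup.coe_inv, mul_inv_cancel_right]
    exact hz⟩
  have : Nontrivial (D ⧸ Z.subgroupOf D) := by
    rw [QuotientGroup.nontrivial_iff, Ne, subgroupOf_eq_top]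
    exact h
  have := (L.pg.to_quotient (Z.subgroupOf D)).center_nontrivial
  obtain ⟨⟨u, hu⟩, h1⟩ := exists_ne (1 : center (D ⧸ Z.subgroupOf D))
  obtain ⟨u, rfl⟩ := QuotientGroup.mk_surjective u
  refine ⟨u, u.2, fun h2 => h1 (Subtype.ext ((QuotientGroup.eq_one_iff _).2 h2)), fun g hg => ?_⟩
  have h2 : ((⟨g, hg⟩ * u * (⟨g, hg⟩ : D)⁻¹ * u⁻¹ : D) : D ⧸ Z.subgroupOf D) = 1 := by
    rw [QuotientGroup.mk_mul, QuotientGroup.mk_mul, QuotientGroup.mk_mul, mem_center_iff.1 hu, QuotientGroup.mk_inv,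
      QuotientGroup.mk_inv]
    group
  exact mem_subgroupOf.1 ((QuotientGroup.eq_one_iff (N := Z.subgroupOf D) _).1 h2)

theorem exists_g {A : Subgroup Y} (h : ¬ D ≤ A) : ∃ g ∈ D, g ∉ A ∧ g ^ l ∈ A := by
  classical
  obtain ⟨g, hg, h1⟩ := SetLike.not_le_iff_exists.1 h
  have h2 : ∃ j : ℕ, g ^ l ^ j ∈ A := (L.el hg).imp fun _ e => by rw [e]; exact one_mem A
  have h3 := Nat.find_spec h2
  rcases hk : Nat.find h2 with _ | j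
  · rw [hk, pow_zero, pow_one] at h3
    exact absurd h3 h1
  · rw [hk, pow_succ, pow_mul] at h3
    exact ⟨_, pow_mem hg _, Nat.find_min h2 (by omega), h3⟩

/-- **the group is central or toral** -/
theorem toral [Finite D] : D ≤ Z ∨ ∃ i, D ≤ T i := by
  by_cases h0 : D ≤ Z
  · exact Or.inl h0
  obtain ⟨u, hu, uz, uc⟩ := L.exists_u h0
  obtain ⟨i, ut, an, ua, -, ue⟩ := L.loc u hu uz
  replace ue := ue uc
  refine Or.inr ⟨i, ?_⟩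
  have hA : ∀ t, t ∈ E i ↔ t ∈ D ⊓ C u := fun t =>
    ⟨fun h => ⟨ue h, L.tc i u ut ((L.me i t).1 h).1⟩, fun h => (L.me i t).2 ⟨ua h, L.le h.1, L.el h.1⟩⟩
  by_contra h1
  have h2 : ¬ D ≤ D ⊓ C u := fun h => h1 (h.trans ua)
  have nA : ∀ g ∈ D, ∀ a ∈ D ⊓ C u, g * a * g⁻¹ ∈ D ⊓ C u := fun g hg a ha => by
    have k1 : g * u * g⁻¹ ∈ D ⊓ C u :=
      ⟨D.mul_mem (D.mul_mem hg hu) (D.inv_mem hg), by simpa using mul_mem (L.z_le hu uz (uc g hg)) (L.self hu uz)⟩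
    have k2 : g * u * g⁻¹ ∉ Z := fun h => uz (by convert mul_mem (inv_mem (uc g hg)) h using 1; group)
    rw [L.part hu uz k1 k2]
    exact ⟨D.mul_mem (D.mul_mem hg ha.1) (D.inv_mem hg), L.cj g (L.le hg) u a ha.2⟩
  have pw : ∀ g ∈ D, g ∉ D ⊓ C u → g ^ l ∈ D ⊓ C u → g ^ l ∈ Z := fun g hg k1 k2 =>
    L.inf_le hu uz hg (fun h => k1 ⟨hg, h⟩) k2 (pow_mem (L.self hg fun h => k1 ⟨hg, L.z_le hu uz h⟩) l)
  have kc : ∀ t ∈ D ⊓ C u, t ∈ H → t ∈ Z := by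
    obtain ⟨g, hg, g1, g2⟩ := L.exists_g h2
    have g3 := pw g hg g1 g2
    have g4 : ∀ t ∈ D ⊓ C u, (t * g) ^ l ∈ Z := fun t ht =>
      pw _ (mul_mem ht.1 hg) (fun h => g1 ((mul_mem_cancel_left ht).1 h))
        (by simpa using mul_mem (mul_pow_mem ht (nA g hg) l) g2)
    intro t ht
    refine L.kd i an g (L.le hg) (fun t ht => (hA _).2 (nA g hg t ((hA t).1 ht))) g3 (fun t ht => g4 t ((hA t).1 ht))
      (fun t ht k1 => ?_) (fun t ht => ?_) t ((hA t).2 ht)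
    · by_contra k2
      exact g1 ((L.part hu uz ((hA t).1 ht) k2).ge ⟨hg, k1⟩)
    · have k1 := (hA t).1 ht
      have k2 := pow_mem_of_comm L.hc (L.le k1.1) (L.le hg) l
      have k3 : (t * g) ^ l * (g ^ l)⁻¹ ∈ H := mul_mem (L.hz ⟨g4 t k1, pow_mem (L.le (mul_mem k1.1 hg)) l⟩)
        (inv_mem (L.hz ⟨g3, pow_mem (L.le hg) l⟩))
      simpa using inv_mem ((mul_mem_cancel_right k3).1 k2)
  obtain ⟨g₀, hg₀, g1⟩ := SetLike.not_le_iff_exists.1 h2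
  obtain ⟨t₀, ht₀, gH⟩ := L.h1 i g₀ (L.le hg₀)
  have hg : g₀ * t₀⁻¹ ∈ D := mul_mem hg₀ (inv_mem (ue ht₀))
  have gA : g₀ * t₀⁻¹ ∉ D ⊓ C u := fun h => g1 ((mul_mem_cancel_right (inv_mem ((hA _).1 ht₀))).1 h)
  generalize g₀ * t₀⁻¹ = g at gH hg gA
  have gz : g ∉ Z := fun h => gA ⟨hg, L.z_le hu uz h⟩
  obtain ⟨j, gt, -, -, ⟨h, hh, he⟩, -⟩ := L.loc g hg gz
  have gE : g ∈ E j := (L.me j g).2 ⟨gt, L.le hg, L.el hg⟩
  have k1 : h * g * h⁻¹ ∈ H := L.h_conj hh (L.le hg) gH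
  have k2 : h * g * h⁻¹ ∉ C u := fun k => by
    have k3 := kc _ ⟨he g gE, k⟩ k1
    have k4 : g = h * g * h⁻¹ := mul_left_cancel (a := h) (by rw [L.zc _ k3 _ hh, inv_mul_cancel_right])
    exact gz (k4 ▸ k3)
  set E' := (E j).map (MulAut.conj h).toMonoidHom with hE'
  have eD : E' ≤ D := by
    rintro _ ⟨t, ht, rfl⟩
    exact he t ht
  have : Finite E' := Finite.of_injective _ (inclusion_injective eD)
  have k3 : C u ⊓ E' ≤ H := by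
    rintro _ ⟨k, t, ht, rfl⟩
    exact L.hz ⟨L.inf_le hu uz (he g gE) k2 ⟨he t ht, k⟩ (L.cj h hh g t (L.tc j g gt ((L.me j t).1 ht).1)), L.le (he t ht)⟩
  have k4 : H.relIndex Γ ≤ H.relIndex E' := relIndex_le_of_cover (eD.trans L.le) fun γ hγ => by
    have k5 : h⁻¹ * γ⁻¹ * h ∈ Γ := mul_mem (mul_mem (inv_mem hh) (inv_mem hγ)) hh
    obtain ⟨t, ht, k6⟩ := L.h1 j _ k5
    refine ⟨h * t⁻¹ * h⁻¹, ⟨t⁻¹, inv_mem ht, rfl⟩, ?_⟩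
    have k7 := inv_mem (L.h_conj hh (mul_mem k5 (inv_mem ((L.me j t).1 ht).2.1)) k6)
    convert k7 using 1
    group
  have k5 : (C u).relIndex E' ≤ (C u).relIndex D := relIndex_le_of_le_right eD index_ne_zero_of_finite
  exact k2 (le_of_relIndex k3 (k5.trans ((L.h3 i u ((hA u).2 ⟨hu, L.self hu uz⟩) uc).trans k4)) ⟨k1, g, gE, rfl⟩)

end Loc

end Cfsg.Agent.BZ.TA.Gp
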