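import Cfsg.Agent.BZ.L.TA.Defs
import Cfsg.Agent.BZ.L.TA.GrpA
import Cfsg.Agent.BZ.L.Cs

/-!
# BZ / L / TA : the group theory, from the lattice step (helper37)

`boxGrp_of_kd` : `BoxGrp` from `BoxH0` and the statement `KdCen` for one torus.
-/

set_option autoImplicit false
set_option linter.unusedSectionVars false

namespace Cfsg.Agent.BZ.TA

open Cfsg Subgroup Cfsg.Agent.HZ.Gen Cfsg.Agent.KM Cfsg.Agent.BZ.Lab Cfsg.Agent.DL Cfsg.Agent.KM.Ht Cfsg.Agent.KM.Tor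
  Cfsg.Agent.BZ.L Cfsg.Agent.DL.PP Cfsg.Agent.HZ.L.Reg Cfsg.Agent.Nodes.Reps Matrix Cfsg.Agent.Tits.Roots

namespace Gp

variable {p : ℕ} [Fact p.Prime] {k : Type} [Field k] [CharP k p] {Y : Type} [Group Y] {N : Type} [Fintype N]
  [DecidableEq N] {ρ : Y →* GL N k} {F : MulAut Y} {G : Subgroup Y} [IsAlgClosed k] (X : Datum p ρ F G)

theorem zg_comm {z : Y} (hz : z ∈ ZG X) {g : Y} (hg : g ∈ G) : g * z = z * g := by
  obtain ⟨c, rfl⟩ := (X.mem_T z).1 hz.1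
  refine KZ.Lie.τ_central (fun b hb => Units.ext ?_) g hg
  have := hz.2 b hb
  rwa [X.χ_τ] at this

variable {y : Y} (hy : y ∈ G) (hN : y⁻¹ * F y ∈ X.NN)

theorem zg_conj : ZG (X.conj hy hN) = ZG X := by
  ext z
  constructor
  · intro h
    obtain ⟨t, ht, rfl⟩ := h.1
    have h1 : t ∈ ZG X := ⟨ht, fun a ha => (X.conj_χ hy hN a ht).symm.trans (h.2 a ha)⟩
    have e : (MulAut.conj y).toMonoidHom t = t := mul_inv_eq_iff_eq_mul.2 (zg_comm X h1 hy)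
    rwa [e]
  · intro h
    have e : y * z * y⁻¹ = z := mul_inv_eq_iff_eq_mul.2 (zg_comm X h hy)
    rw [← e]
    exact ⟨⟨z, h.1, rfl⟩, fun a ha => (X.conj_χ hy hN a h.1).trans (h.2 a ha)⟩

theorem z0_conj : Z0 (X.conj hy hN) ∅ = Z0 X ∅ := by
  unfold Z0
  congr 1
  ext z
  have e : (X.conj hy hN).Sz ∅ = X.Sz ∅ := Set.ext fun _ => and_congr_right fun _ => ⟨fun _ _ h => h.elim, fun _ _ h => h.elim⟩
  refine exists₂_congr fun v a => ?_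
  rw [e]
  refine and_congr_right fun h => ?_
  rw [X.conj_tau, mul_inv_eq_iff_eq_mul.2 (KZ.Lie.τ_central (D := X) (a := coch v a) (fun b hb => by
    rw [chr_coch, show ∑ j, X.wt b j * v j = 0 from h b ⟨hb, fun _ h => h.elim⟩, zpow_zero]) y hy)]

/-- the fixed `l`-elements of the torus -/
def El (l : ℕ) : Subgroup Y where
  carrier := {t | Tl X l t}
  one_mem' := ⟨one_mem _, map_one F, 0, one_pow _⟩
  mul_mem' := fun {a b} ⟨h1, h2, i, h3⟩ ⟨k1, k2, j, k3⟩ => ⟨mul_mem h1 k1, by rw [map_mul, h2, k2], i + j, by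
    rw [(show Commute a b from X.T_comm h1 k1).mul_pow, pow_add, pow_mul, h3, one_pow, mul_comm (l ^ i), pow_mul, k3, one_pow, one_mul]⟩
  inv_mem' := fun ⟨h1, h2, i, h3⟩ => ⟨inv_mem h1, by rw [map_inv, h2], i, by rw [inv_pow, h3, inv_one]⟩

end Gp

/-- the lattice step for one torus -/
def KdCen : Prop := AllD fun {p} _ {k} _ _ {Y} _ _ _ _ _ {F} {G} _ X => ∀ {q d l n c r m : ℕ}, Nq p q d l → Nr q d r m → Cs X q n c →
  0 < m → m ≡ 1 [MOD n] → CZ X → Pt F G m r X.T = Pt F G m r (Z0 X ∅) → ∀ H : Subgroup Y,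
  (∀ (t : Y) (e : ℕ) (ζ : kˣ) (v μ : X.I → ℤ), Tl X l t → orderOf ζ = l ^ e → Xp X t ζ v → Qm X *ᵥ v - v = (l : ℤ) ^ e • μ →
    (t ∈ H ↔ ∃ (s : ℤ) (β ν : X.I → ℤ), ¬ (l : ℤ) ∣ s ∧ s • μ = β ᵥ* Cm X + (Qm X *ᵥ ν - ν))) →
  ∀ g ∈ GF F G, (∀ t, Tl X l t → Tl X l (g * t * g⁻¹)) → g ^ l ∈ ZG X → (∀ t, Tl X l t → (t * g) ^ l ∈ ZG X) →
    (∀ t, Tl X l t → g ∈ X.cen {t} → t ∈ ZG X) → (∀ t, Tl X l t → t ^ l ∈ H) → ∀ t, Tl X l t → t ∈ H → t ∈ ZG X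

theorem boxGrp_of_kd (H0 : BoxH0) (Kd : KdCen) : BoxGrp := fun p _ q d l n c nq => by
  by_cases h0 : n = 0
  · exact Lg.of_forall fun m _ r _ k _ _ Y _ I _ _ ρ F G _ X h => absurd h.n0 (by omega)
  refine (Lg.prime.and (Lg.modEq h0)).mono fun m hm r nr k _ _ Y _ I _ _ ρ F G _ X cs _ _ _ _ _ _ _ cz D S => ?_
  obtain ⟨H, -, hc, hz, hH⟩ := H0 X cz l nq.lp nq.ne
  have : Finite D := Finite.of_injective _ (inclusion_injective (S.le.trans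
    (show GF F G ≤ GF (F ^ m) G from inf_le_inf_left G (fix_le_fix_pow m))))
  have L : Gp.Loc l (GF F G) D H (ZG X) (CF.cco G) (ι := {y : Y // y ∈ G ∧ y⁻¹ * F y ∈ X.NN})
      (fun y => (X.conj y.2.1 y.2.2).T) (fun y => Gp.El (X.conj y.2.1 y.2.2) l)
      (fun y => Pt F G m r (X.conj y.2.1 y.2.2).T = Pt F G m r (Z0 X ∅)) :=
    { lp := nq.lp
      le := S.le
      pg := S.pg
      zc := fun _ hz _ hg => Gp.zg_comm X hz hg.1
      zt := fun y _ hz => ((Gp.zg_conj X y.2.1 y.2.2).ge hz).1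
      tc := fun y _ h => by
        rw [Datum.cco_eq_cen _ h]
        exact Datum.T_le_cen _ _
      cj := fun g hg x y h => by
        rw [← CF.cj_cco_of_mem hg.1]
        exact ⟨y, h, rfl⟩
      me := fun y t => ⟨fun h => ⟨h.1, ⟨Datum.T_le_G _ h.1, h.2.1⟩, h.2.2⟩, fun h => ⟨h.1, h.2.1.2, h.2.2⟩⟩
      loc := fun x hx h => by
        obtain ⟨y, hy, hN, h1, h2, h3, h4, h5⟩ := S.loc x hx h
        exact ⟨⟨y, hy, hN⟩, h1, h2, (Datum.cco_eq_cen _ h1).symm ▸ h3, h4, h5⟩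
      hc := fun a ha b hb => hc (commutator_mem_commutator ha hb)
      hz := hz
      h1 := fun y => (hH y y.2.1 y.2.2).1
      h3 := fun y u hu h => (Datum.cco_eq_cen _ hu.1).symm ▸ (hH y y.2.1 y.2.2).2.2 u D hu S.le h S.pg
      kd := fun y an g hg k1 k2 k3 k4 k5 => by
        rw [← Gp.zg_conj X y.2.1 y.2.2] at k2 k3 k4 ⊢
        exact Kd (X.conj y.2.1 y.2.2) nq nr (cs.conj y.2.1 y.2.2) hm.1.pos hm.2 cz (an.trans (by rw [Gp.z0_conj])) H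
          (hH y y.2.1 y.2.2).2.1 g hg k1 k2 k3 (fun t ht h => k4 t ht ((Datum.cco_eq_cen _ ht.1).symm ▸ h)) k5 }
  rcases L.toral with h | ⟨y, h⟩
  · have h1 : (1 : Y)⁻¹ * F 1 ∈ X.NN := by simp
    exact ⟨1, one_mem G, h1, fun _ hx => L.zt ⟨1, one_mem G, h1⟩ (h hx)⟩
  · exact ⟨y, y.2.1, y.2.2, h⟩

end Cfsg.Agent.BZ.TA
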