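import Cfsg.Agent.BZ.L.TA.K

/-!
# BZ / L / TA : duality and counting for `BoxH0` (helper46)
-/

set_option autoImplicit false
set_option linter.unusedSectionVars false

namespace Cfsg.Agent.BZ.TA.H0

open Matrix

variable {I : Type} [Fintype I] [DecidableEq I]

/-- the admissible characters -/
def Adm (M : ℤ) (C Q : Matrix I I ℤ) (b : I → ℤ) : Prop := Dz M (C *ᵥ b) ∧ Dz M (b ᵥ* Q - b)

theorem dz_ex {M : ℤ} {v : I → ℤ} (h : Dz M v) : ∃ u, M • u = v := by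
  choose u hu using h
  exact ⟨u, funext fun i => (hu i).symm⟩

theorem dz_dot {M : ℤ} {v : I → ℤ} (h : Dz M v) (u : I → ℤ) : M ∣ u ⬝ᵥ v := Finset.dvd_sum fun i _ => (h i).mul_left _

theorem eq_of_dot {u v : I → ℤ} (h : ∀ a, a ⬝ᵥ u = a ⬝ᵥ v) : u = v := funext fun i => by
  simpa using h (Pi.single i 1)

theorem dot_Q (Q : Matrix I I ℤ) (b ν : I → ℤ) : b ⬝ᵥ (Q *ᵥ ν - ν) = (b ᵥ* Q - b) ⬝ᵥ ν := by
  rw [dotProduct_sub, sub_dotProduct, dotProduct_mulVec]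

theorem Adm.dvd {M : ℤ} {C Q : Matrix I I ℤ} {b : I → ℤ} (h : Adm M C Q b) (β ν : I → ℤ) :
    M ∣ b ⬝ᵥ (β ᵥ* C + (Q *ᵥ ν - ν)) := by
  rw [dotProduct_add, dot_Q, dotProduct_comm b, ← dotProduct_mulVec, dotProduct_comm _ ν]
  exact dvd_add (dz_dot h.1 β) (dz_dot h.2 ν)

/-- the lattice `R + M Λ` -/
def S0 (M : ℤ) (C : Matrix I I ℤ) : AddSubgroup (I → ℤ) where
  carrier := {μ | ∃ β la, μ = β ᵥ* C + M • la}
  zero_mem' := ⟨0, 0, by simp⟩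
  add_mem' := by
    rintro _ _ ⟨β, la, rfl⟩ ⟨β', la', rfl⟩
    exact ⟨β + β', la + la', by rw [add_vecMul, smul_add]; abel⟩
  neg_mem' := by
    rintro _ ⟨β, la, rfl⟩
    exact ⟨-β, -la, by rw [neg_vecMul, smul_neg]; abel⟩

/-- the lattice `R + (Q - 1) Λ + M Λ` -/
def S1 (M : ℤ) (C Q : Matrix I I ℤ) : AddSubgroup (I → ℤ) := S0 M C ⊔ (mulVecLin (Q - 1)).toAddMonoidHom.range

theorem mem_S1 {M : ℤ} {C Q : Matrix I I ℤ} {μ : I → ℤ} :
    μ ∈ S1 M C Q ↔ ∃ β la ν, μ = β ᵥ* C + M • la + (Q *ᵥ ν - ν) := by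
  rw [S1, AddSubgroup.mem_sup]
  constructor
  · rintro ⟨_, ⟨β, la, rfl⟩, _, ⟨ν, rfl⟩, rfl⟩
    exact ⟨β, la, ν, by simp⟩
  · rintro ⟨β, la, ν, rfl⟩
    exact ⟨_, ⟨β, la, rfl⟩, _, ⟨ν, rfl⟩, by simp⟩

/-- **duality** -/
theorem dual {M : ℤ} (hM : M ≠ 0) {C Q : Matrix I I ℤ} {μ : I → ℤ} (h : ∀ b, Adm M C Q b → M ∣ b ⬝ᵥ μ) : μ ∈ S1 M C Q := by
  by_contra h0
  obtain ⟨c, hc⟩ := CharacterModule.exists_character_apply_ne_zero_of_ne_zero
    (A := (I → ℤ) ⧸ S1 M C Q) (a := QuotientAddGroup.mk μ) fun e => h0 ((QuotientAddGroup.eq_zero_iff _).1 e)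
  let φ : (I → ℤ) →+ AddCircle (1 : ℚ) := AddMonoidHom.comp c (QuotientAddGroup.mk' _)
  have h1 : ∀ v ∈ S1 M C Q, φ v = 0 := fun v hv => by
    show c (QuotientAddGroup.mk v) = 0
    rw [(QuotientAddGroup.eq_zero_iff _).2 hv, map_zero]
  have hq : (M : ℚ) ≠ 0 := Int.cast_ne_zero.2 hM
  have h2 : ∀ i, ∃ n : ℤ, φ (Pi.single i 1) = ((n / M : ℚ) : AddCircle (1 : ℚ)) := fun i => by
    obtain ⟨q, hq'⟩ := QuotientAddGroup.mk_surjective (φ (Pi.single i 1))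
    have h3 := h1 (M • Pi.single i 1) (mem_S1.2 ⟨0, Pi.single i 1, 0, by simp⟩)
    rw [map_zsmul, ← hq', ← QuotientAddGroup.mk_zsmul] at h3
    obtain ⟨n, hn⟩ := (AddCircle.coe_eq_zero_iff _).1 h3
    refine ⟨n, hq'.symm.trans (congrArg _ ?_)⟩
    rw [eq_div_iff hq, mul_comm, ← zsmul_eq_mul, ← hn, zsmul_eq_mul, mul_one]
  choose b hb using h2
  have h3 : ∀ v, φ v = 0 ↔ M ∣ b ⬝ᵥ v := fun v => by
    have h4 : φ v = (((b ⬝ᵥ v : ℤ) / M : ℚ) : AddCircle (1 : ℚ)) := by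
      conv_lhs => rw [← Finset.univ_sum_single v, map_sum]
      rw [dotProduct, Int.cast_sum, Finset.sum_div, QuotientAddGroup.mk_sum]
      refine Finset.sum_congr rfl fun i _ => ?_
      rw [show Pi.single i (v i) = v i • (Pi.single i 1 : I → ℤ) by rw [← Pi.single_smul, smul_eq_mul, mul_one], map_zsmul, hb,
        ← QuotientAddGroup.mk_zsmul, zsmul_eq_mul, Int.cast_mul, mul_div_assoc', mul_comm]
    rw [h4, AddCircle.coe_eq_zero_iff]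
    refine ⟨fun ⟨n, hn⟩ => ⟨n, ?_⟩, fun ⟨n, hn⟩ => ⟨n, ?_⟩⟩
    · rw [zsmul_eq_mul, mul_one, eq_div_iff hq, mul_comm] at hn
      exact_mod_cast hn.symm
    · rw [hn, zsmul_eq_mul, mul_one, Int.cast_mul, mul_div_cancel_left₀ _ hq]
  refine hc ((h3 μ).2 (h b ⟨fun i => ?_, fun i => ?_⟩))
  · have := (h3 _).1 (h1 _ (mem_S1.2 ⟨Pi.single i 1, 0, 0, rfl⟩))
    rwa [smul_zero, add_zero, mulVec_zero, sub_zero, add_zero, dotProduct_comm, ← dotProduct_mulVec, single_dotProduct,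
      one_mul] at this
  · have := (h3 _).1 (h1 _ (mem_S1.2 ⟨0, 0, Pi.single i 1, rfl⟩))
    rwa [smul_zero, add_zero, zero_vecMul, zero_add, dot_Q, dotProduct_single, mul_one] at this

theorem Adm.dvd' {M : ℤ} {C Q : Matrix I I ℤ} {b μ : I → ℤ} (h : Adm M C Q b) (hμ : μ ∈ S1 M C Q) : M ∣ b ⬝ᵥ μ := by
  obtain ⟨β, la, ν, rfl⟩ := mem_S1.1 hμ
  rw [add_right_comm, dotProduct_add, dotProduct_smul]
  exact dvd_add (h.dvd β ν) (dvd_mul_right _ _)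

/-- a non-zero determinant is a power of `l` times a number prime to `l` -/
theorem exists_adj {l : ℕ} (hl : l.Prime) {A : Matrix I I ℤ} (hA : A.det ≠ 0) :
    ∃ (a : ℕ) (s : ℤ), ¬ (l : ℤ) ∣ s ∧ (∀ μ, ∃ v, A *ᵥ v = (l : ℤ) ^ a • s • μ) ∧ ∀ μ, ∃ v, v ᵥ* A = (l : ℤ) ^ a • s • μ := by
  obtain ⟨a, s, hs, e⟩ := Nat.exists_eq_pow_mul_and_not_dvd (Int.natAbs_ne_zero.2 hA) l hl.ne_one
  have h1 : (l : ℤ) ^ a * (s : ℤ) = A.det.sign * A.det := by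
    rw [Int.sign_mul_self, e, Nat.cast_mul, Nat.cast_pow]
  refine ⟨a, s, fun h => hs (Int.natCast_dvd_natCast.1 h), fun μ => ⟨A.det.sign • A.adjugate *ᵥ μ, ?_⟩,
    fun μ => ⟨A.det.sign • μ ᵥ* A.adjugate, ?_⟩⟩
  · rw [mulVec_smul, mulVec_mulVec, mul_adjugate, smul_mulVec, one_mulVec, smul_smul, smul_smul, h1]
  · rw [smul_vecMul, vecMul_vecMul, adjugate_mul, vecMul_smul, vecMul_one, smul_smul, smul_smul, h1]

/-- **counting** : kernel and cokernel of `Q - 1` on `Λ / (R + M Λ)` -/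
theorem count {M : ℤ} (hM : M ≠ 0) {C Q : Matrix I I ℤ} (hQ : ∀ β, ∃ β', Q *ᵥ (β ᵥ* C) = β' ᵥ* C) {Y : Type} [Group Y]
    {D K H L : Subgroup Y} [Finite L] (δ : D → I → ℤ) (h1 : ∀ g, Q *ᵥ δ g - δ g ∈ S0 M C)
    (h2 : ∀ g g', δ g' - δ g ∈ S0 M C → (g : Y)⁻¹ * g' ∈ K) (τ : (I → ℤ) → L)
    (h3 : ∀ μ μ', (τ μ : Y)⁻¹ * τ μ' ∈ H → μ' - μ ∈ S1 M C Q) : K.relIndex D ≤ H.relIndex L := by
  let A := (I → ℤ) ⧸ S0 M C
  have hA : Finite A := by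
    refine AddCommGroup.finite_of_fg_isAddTorsion A fun a => ?_
    obtain ⟨v, rfl⟩ := QuotientAddGroup.mk_surjective a
    refine isOfFinAddOrder_iff_zsmul_eq_zero.2 ⟨M, hM, ?_⟩
    rw [← QuotientAddGroup.mk_zsmul]
    exact (QuotientAddGroup.eq_zero_iff _).2 ⟨0, v, by simp⟩
  let f : A →+ A := QuotientAddGroup.map _ _ (mulVecLin (Q - 1)).toAddMonoidHom (by
    rintro _ ⟨β, la, rfl⟩
    obtain ⟨β', hβ⟩ := hQ β
    refine ⟨β' - β, Q *ᵥ la - la, ?_⟩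
    show (Q - 1) *ᵥ _ = _
    rw [sub_mulVec, one_mulVec, mulVec_add, hβ, mulVec_smul, sub_vecMul, smul_sub]
    abel)
  have hf : ∀ v, f (QuotientAddGroup.mk v) = QuotientAddGroup.mk (Q *ᵥ v - v) := fun v => by
    show QuotientAddGroup.mk ((Q - 1) *ᵥ v) = _
    rw [sub_mulVec, one_mulVec]
  have h4 : Nat.card f.ker = f.range.index := by
    refine Nat.eq_of_mul_eq_mul_right (Nat.card_pos (α := f.range)) ?_
    rw [← AddSubgroup.index_ker, AddSubgroup.card_mul_index, AddSubgroup.index_ker, AddSubgroup.index_mul_card]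
  calc K.relIndex D ≤ Nat.card f.ker := by
        refine Nat.card_le_card_of_injective (fun q : D ⧸ K.subgroupOf D => (⟨QuotientAddGroup.mk (δ q.out), ?_⟩ : f.ker))
          fun q q' e => ?_
        · rw [AddMonoidHom.mem_ker, hf]
          exact (QuotientAddGroup.eq_zero_iff _).2 (h1 _)
        · rw [← q.out_eq, ← q'.out_eq]
          refine QuotientGroup.eq.2 (h2 _ _ ?_)
          rw [sub_eq_neg_add]
          exact QuotientAddGroup.eq.1 (congrArg Subtype.val e)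
    _ ≤ H.relIndex L := by
        rw [h4]
        refine Nat.card_le_card_of_injective (fun q : A ⧸ f.range => (QuotientGroup.mk (τ q.out.out) : L ⧸ H.subgroupOf L))
          fun q q' e => ?_
        have e' : (τ q.out.out)⁻¹ * τ q'.out.out ∈ H.subgroupOf L := QuotientGroup.eq.1 e
        obtain ⟨β, la, ν, h5⟩ := mem_S1.1 (h3 _ _ e')
        rw [← q.out_eq, ← q'.out_eq]
        refine QuotientAddGroup.eq.2 ⟨QuotientAddGroup.mk ν, ?_⟩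
        rw [hf, ← QuotientAddGroup.out_eq' q.out, ← QuotientAddGroup.out_eq' q'.out, ← QuotientAddGroup.mk_neg,
          ← QuotientAddGroup.mk_add]
        refine QuotientAddGroup.eq.2 ⟨β, la, ?_⟩
        rw [← sub_eq_neg_add, ← sub_eq_neg_add, h5, add_sub_cancel_right]

end Cfsg.Agent.BZ.TA.H0
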