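import Cfsg.Agent.BZ.L.TA.Defs
import Cfsg.Agent.BZ.L.TA.H0a
import Cfsg.Agent.KZ.Mts.Main
import Cfsg.Agent.TO.E6.Tool
import Cfsg.Agent.TO.X.Conn
import Cfsg.Agent.DL.PP.Det

/-!
# BZ / L / TA : the linear characters of the admissible weights (helper46)
-/

set_option autoImplicit false
set_option linter.unusedSectionVars false

namespace Cfsg.Agent.BZ.TA.H0

open Cfsg Subgroup Cfsg.Agent.DL Cfsg.Agent.KM.Tor Cfsg.Agent.DL.PP Cfsg.Agent.HZ.L.Reg Cfsg.Agent.Nodes.Reps Matrix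
  Cfsg.Agent.Tits.Roots Cfsg.Agent.KZ.Mts Cfsg.Agent.ChevalleyStructure.CoxeterGeom
open Cfsg.Agent.TO.X.Cn (co co_apply exists_co exists_cp)

variable {p : ℕ} [Fact p.Prime] {k : Type} [Field k] [CharP k p] {Y : Type} [Group Y] {N : Type} [Fintype N]
  [DecidableEq N] {ρ : Y →* GL N k} {F : MulAut Y} {G : Subgroup Y} [IsAlgClosed k] (X : Datum p ρ F G)

theorem Cm_eq : Cm X = (Am X * (of X.cw)ᵀ)ᵀ := rfl

theorem det_Cm : (Cm X).det ≠ 0 := by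
  rw [Cm_eq, det_transpose]
  exact det_cartan X

theorem co_eq (β a : X.I → ℤ) : co X β a = a ⬝ᵥ (β ᵥ* Cm X) := by
  rw [dotProduct_comm, ← dotProduct_mulVec, Cm_eq, mulVec_transpose, ← vecMul_vecMul, vecMul_Am, co_apply]
  exact Finset.sum_congr rfl fun i _ => by rw [← X.pair]; rfl

theorem dot_Qm (a v : X.I → ℤ) : a ⬝ᵥ (Qm X *ᵥ v) = X.ψ a ⬝ᵥ v := by rw [dotProduct_mulVec, vecMul_Qm]

/-- the functional of a coweight -/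
def fv {I : Type} [Fintype I] (v : I → ℤ) : (I → ℤ) →+ ℤ := AddMonoidHom.mk' (fun a => a ⬝ᵥ v) fun a b => add_dotProduct a b v

theorem act_dot (w : X.W) (v : X.I → ℤ) : ∃ β, ∀ a, X.act w a ⬝ᵥ v = a ⬝ᵥ v + a ⬝ᵥ (β ᵥ* Cm X) :=
  let ⟨β, h⟩ := exists_co X (fv v) w
  ⟨β, fun a => (h a).trans (by rw [co_eq]; rfl)⟩

theorem cor_dot {c : X.I → ℤ} (hc : X.Rt c) : ∃ β, ∀ b, X.wt b ⬝ᵥ X.cor c = b ⬝ᵥ (β ᵥ* Cm X) :=
  let ⟨β, h⟩ := exists_cp X hc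
  ⟨β, fun b => (X.pair_cor hc b).trans ((h b).trans (co_eq X β b))⟩

theorem Qm_R (β : X.I → ℤ) : ∃ β', Qm X *ᵥ (β ᵥ* Cm X) = β' ᵥ* Cm X := by
  choose γ hγ using fun i => cor_dot X (X.g_root _ (isRoot_sr X.cs X.h i))
  refine ⟨∑ i, β i • ((p : ℤ) ^ X.ex (sr i)) • γ i, eq_of_dot fun a => ?_⟩
  rw [dot_Qm, ← co_eq, co_apply, Matrix.sum_vecMul, dotProduct_sum]
  refine Finset.sum_congr rfl fun i _ => ?_
  rw [smul_vecMul, smul_vecMul, dotProduct_smul, dotProduct_smul, ← hγ, ← dotProduct_smul, ← X.Mx_cor (isRoot_sr X.cs X.h i),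
    dotProduct_mulVec, ← X.wt_ψ, X.cor_sr, ← X.pair]
  rfl

theorem det_Qm : (Qm X - 1).det ≠ 0 := fun h => by
  obtain ⟨v, h0, hv⟩ := exists_mulVec_eq_zero_iff.2 h
  obtain ⟨d, e, H⟩ := X.exists_split'
  rw [sub_mulVec, one_mulVec, sub_eq_zero] at hv
  have h1 : ∀ n : ℕ, Qm X ^ n *ᵥ v = v := fun n => by
    induction n with
    | zero => rw [pow_zero, one_mulVec]
    | succ n ih => rw [pow_succ, ← mulVec_mulVec, hv, ih]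
  have h2 := h1 d
  rw [Qm_pow X (X.Mx_pow H), smul_mulVec, one_mulVec, ← sub_eq_zero] at h2
  nth_rw 2 [← one_smul ℤ v] at h2
  rw [← sub_smul, smul_eq_zero, sub_eq_zero] at h2
  refine h2.elim (fun h3 => ?_) h0
  exact (Nat.one_lt_pow H.e_pos.ne' (Fact.out : p.Prime).one_lt).ne' (by exact_mod_cast h3)

variable {M : ℤ} {b : X.I → ℤ}

theorem dvd_R (h : Dz M (Cm X *ᵥ b)) (β : X.I → ℤ) : M ∣ b ⬝ᵥ (β ᵥ* Cm X) := by
  rw [dotProduct_comm, ← dotProduct_mulVec]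
  exact dz_dot h β

theorem act_sub (h : Dz M (Cm X *ᵥ b)) (w : X.W) : ∃ u, X.act w b = b + M • u := by
  obtain ⟨u, hu⟩ := dz_ex (M := M) (v := X.act w b - b) fun j => by
    obtain ⟨β, hβ⟩ := act_dot X w (Pi.single j 1)
    have h1 := hβ b
    rw [dotProduct_single, dotProduct_single, mul_one, mul_one] at h1
    rw [Pi.sub_apply, h1, add_sub_cancel_left]
    exact dvd_R X h β
  exact ⟨u, by rw [hu, add_sub_cancel]⟩

theorem conj_ψ {y : Y} (hy : y ∈ G) (hN : y⁻¹ * F y ∈ X.NN) (b : X.I → ℤ) :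
    (X.conj hy hN).ψ b = X.ψ (X.act (X.pr (y⁻¹ * F y))⁻¹ b) :=
  X.wt_injective (((X.conj hy hN).wt_ψ b).trans (by rw [X.wt_ψ, X.wt_act', vecMul_vecMul]))

theorem adm_conj {y : Y} (hy : y ∈ G) (hN : y⁻¹ * F y ∈ X.NN) :
    Adm M (Cm X) (Qm (X.conj hy hN)) b ↔ Adm M (Cm X) (Qm X) b := by
  refine and_congr_right fun h => forall_congr' fun i => ?_
  obtain ⟨u, hu⟩ := act_sub X h (X.pr (y⁻¹ * F y))⁻¹
  rw [(vecMul_Qm (X.conj hy hN) b).trans (conj_ψ X hy hN b), hu, map_add, map_zsmul, vecMul_Qm, add_sub_right_comm]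
  exact dvd_add_left (dvd_mul_right _ _)

theorem lin_qs (hq : X.QS) (hM : M ≠ 0) (h : Adm M (Cm X) (Qm X) b) : ∃ μ : ↥(GF F G) →* kˣ, ∀ y ∈ G, ∀ w, X.Rp w (y⁻¹ * F y) →
    ∀ c (hc : y * X.τ c * y⁻¹ ∈ GF F G) b', M • b' = X.ψ (X.act w⁻¹ b) - b → μ ⟨_, hc⟩ = chr (X.wt b') c := by
  have h0 : ∀ (B : Matrix X.R X.R ℤ) (u : X.I → ℤ), X.wt b ᵥ* B = X.wt (b + M • u) → Good M (X.wt b) B := fun B u e v => by
    rw [dotProduct_comm, dotProduct_mulVec, e, map_add, map_zsmul, add_dotProduct, dotProduct_comm v, add_sub_cancel_left,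
      smul_dotProduct]
    exact dvd_mul_right _ _
  have hW : ∀ w, Good M (X.wt b) (X.Wm w) := fun w =>
    let ⟨u, hu⟩ := act_sub X h.1 w⁻¹
    h0 _ u (by rw [← X.wt_act', hu])
  have hF : Good M (X.wt b) X.Mx :=
    let ⟨u, hu⟩ := dz_ex h.2
    h0 _ u (by rw [← X.wt_ψ, hu, vecMul_Qm, add_sub_cancel])
  have hc : ∀ r, X.Rt r → M ∣ X.cor r ⬝ᵥ X.wt b := fun r hr => by
    obtain ⟨β, hβ⟩ := cor_dot X hr
    rw [dotProduct_comm, hβ]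
    exact dvd_R X h.1 β
  obtain ⟨δ, -, hδ⟩ := (cv hM hW hF hc).exists_δ hq
  refine ⟨(MonoidHom.snd _ _).comp δ, fun y hy w hw c h1 b' h2 => ?_⟩
  have h3 := congrArg Prod.snd (hδ y hy w hw (c, 1) h1)
  have h4 := congrArg Prod.snd (DFunLike.congr_fun (lift_mul (K := k) hM (hW w) hF) (c, 1))
  have h5 : bt M (X.wt b) (X.Wm w * X.Mx) = X.wt b' := bt_eq hM (by
    rw [← map_zsmul, h2, map_sub, X.wt_ψ, X.wt_act', vecMul_vecMul])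
  rw [lift_apply, h5, one_mul] at h4
  exact h3.trans ((one_mul _).trans h4.symm)

/-- `μ` is the linear character of `b` on the torus of the frame -/
def Lf (M : ℤ) (b : X.I → ℤ) (μ : ↥(GF F G) →* kˣ) : Prop :=
  ∀ t ∈ X.T, ∀ (hg : t ∈ GF F G) (b' : X.I → ℤ), M • b' = b ᵥ* Qm X - b → (μ ⟨t, hg⟩ : k) = X.χ b' t

theorem exists_lin (hM : M ≠ 0) (h : Adm M (Cm X) (Qm X) b) :
    ∃ μ : ↥(GF F G) →* kˣ, ∀ y (hy : y ∈ G) (hN : y⁻¹ * F y ∈ X.NN), Lf (X.conj hy hN) M b μ := by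
  obtain ⟨y, hy, hF, hq⟩ := X.exists_qs
  have h1 := X.rp_pr hF
  obtain ⟨μ, h3⟩ := lin_qs (X.conj hy hF) hq hM ((adm_conj X hy hF).2 h)
  refine ⟨μ, fun z hz hN t ht hg b' hb => ?_⟩
  obtain ⟨c, rfl⟩ := ((X.conj hz hN).mem_T t).1 ht
  have h5 : z * y⁻¹ * (X.conj hy hF).τ c * (z * y⁻¹)⁻¹ = (X.conj hz hN).τ c := by
    rw [X.conj_tau, X.conj_tau]
    group
  have h4 := h3 (z * y⁻¹) (mul_mem hz (inv_mem hy)) (X.pr (z⁻¹ * F z) * (X.pr (y⁻¹ * F y))⁻¹) (by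
    convert (X.conj_rp_iff hy hF).2 ((X.rp_pr hN).mul h1.inv) using 1
    rw [map_mul, map_inv]
    group) c (h5 ▸ hg) b' (by
    rw [hb, (vecMul_Qm (X.conj hz hN) b).trans (conj_ψ X hz hN b), conj_ψ]
    show _ = X.ψ (X.act _ (X.act _ b)) - b
    rw [← CF.act_mul, _root_.mul_inv_rev, inv_inv, inv_mul_cancel_left])
  rw [Datum.χ_τ, ← h4]
  simp only [h5]

variable {X} {t : Y} {ζ : kˣ} {v : X.I → ℤ}

theorem Lf.val {μ : ↥(GF F G) →* kˣ} (h : Lf X M b μ) (hb : Dz M (b ᵥ* Qm X - b)) (ht : t ∈ X.T) (hg : t ∈ GF F G)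
    (hx : Xp X t ζ v) {n : ℤ} {ν : X.I → ℤ} (hv : Qm X *ᵥ v - v = n • ν) : ∃ j : ℤ, μ ⟨t, hg⟩ = ζ ^ j ∧ M * j = n * (b ⬝ᵥ ν) := by
  obtain ⟨b', e⟩ := dz_ex hb
  refine ⟨b' ⬝ᵥ v, Units.ext ((h t ht hg b' e).trans (hx b')), ?_⟩
  rw [← smul_eq_mul, ← smul_dotProduct, e, ← dot_Q, hv, dotProduct_smul, smul_eq_mul]

theorem Lf.pow {μ : ↥(GF F G) →* kˣ} (h : Lf X M b μ) (hb : Dz M (b ᵥ* Qm X - b)) (ht : t ∈ X.T) (hg : t ∈ GF F G) :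
    μ ⟨t, hg⟩ ^ M = 1 := by
  obtain ⟨b', e⟩ := dz_ex hb
  refine Units.ext ?_
  rw [Units.val_zpow_eq_zpow_val, h t ht hg b' e, ← X.χ_zsmul, e, vecMul_Qm, sub_eq_add_neg, X.χ_add, X.χ_neg, ← X.χ_ψ b ht, (mem_GF.1 hg).2,
    mul_inv_cancel₀ (X.χ_ne_zero _ _), Units.val_one]

theorem χ_cen {z : Y} (hz : z ∈ ZG X) (b : X.I → ℤ) : X.χ b z = 1 := by
  have h1 : al X (X.crd z) = 1 := funext fun i => Units.ext (hz.2 _ (isRoot_sr X.cs X.h i))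
  rw [Datum.χ, ← chr_al, h1, map_one, Units.val_one]

theorem cen_conj {z y : Y} (hz : z ∈ ZG X) (hy : y ∈ G) (hN : y⁻¹ * F y ∈ X.NN) : z ∈ ZG (X.conj hy hN) := by
  have h1 : al X (X.crd z) = 1 := funext fun i => Units.ext (hz.2 _ (isRoot_sr X.cs X.h i))
  have h2 := central_of_al X h1 y hy
  rw [X.τ_crd hz.1, ← mul_inv_eq_iff_eq_mul] at h2
  rw [← h2]
  exact ⟨⟨z, hz.1, rfl⟩, fun a ha => (X.conj_χ hy hN a hz.1).trans (hz.2 a ha)⟩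

theorem exists_prim {l : ℕ} (hl : l.Prime) (hp : l ≠ p) (e : ℕ) : ∃ ζ : kˣ, IsPrimitiveRoot ζ (l ^ e) := by
  have : NeZero ((l ^ e : ℕ) : k) := ⟨fun h => hp ((Nat.prime_dvd_prime_iff_eq Fact.out hl).1
    ((Fact.out : p.Prime).dvd_of_dvd_pow ((CharP.cast_eq_zero_iff k p _).1 h))).symm⟩
  have : NeZero (l ^ e) := ⟨pow_ne_zero _ hl.ne_zero⟩
  obtain ⟨z, hz⟩ := HasEnoughRootsOfUnity.exists_primitiveRoot k (l ^ e)
  exact ⟨_, hz.isUnit_unit (pow_ne_zero _ hl.ne_zero)⟩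

theorem exists_Xp {l : ℕ} (hl : l.Prime) (hp : l ≠ p) (ht : Tl X l t) (E : ℕ) : ∃ (a : ℕ) (ζ : kˣ) (v ν : X.I → ℤ),
    IsPrimitiveRoot ζ (l ^ (a + E)) ∧ Xp X t ζ v ∧ Qm X *ᵥ v - v = (l : ℤ) ^ (a + E) • ν := by
  obtain ⟨h1, h2, a, h3⟩ := ht
  obtain ⟨ζ, hζ⟩ := exists_prim (k := k) hl hp (a + E)
  have : NeZero (l ^ (a + E)) := ⟨pow_ne_zero _ hl.ne_zero⟩
  have h4 : X.crd t ^ l ^ (a + E) = 1 := X.τ_inj (by rw [map_pow, X.τ_crd h1, pow_add, pow_mul, h3, one_pow, map_one])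
  have h5 : ∀ i, ∃ n : ℕ, ζ ^ n = al X (X.crd t) i := fun i => by
    obtain ⟨n, -, hn⟩ := hζ.eq_pow_of_mem_rootsOfUnity (ξ := al X (X.crd t) i) (by
      rw [mem_rootsOfUnity, ← Pi.pow_apply, ← map_pow, h4, map_one, Pi.one_apply])
    exact ⟨n, hn⟩
  choose v hv using h5
  have h6 : Xp X t ζ fun i => v i := fun b => by
    rw [Datum.χ, ← chr_al, ← show coch (fun i => (v i : ℤ)) ζ = al X (X.crd t) from funext fun i => (zpow_natCast _ _).trans (hv i),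
      chr_coch]
    rfl
  obtain ⟨ν, hν⟩ := dz_ex (M := (l : ℤ) ^ (a + E)) (v := Qm X *ᵥ (fun i => (v i : ℤ)) - fun i => (v i : ℤ)) fun i => by
    have h7 := X.χ_ψ (Pi.single i 1) h1
    rw [h2, h6, h6, Units.val_inj, ← dot_Qm, single_dotProduct, single_dotProduct, one_mul, one_mul] at h7
    rw [← Nat.cast_pow, ← hζ.zpow_eq_one_iff_dvd, Pi.sub_apply, _root_.zpow_sub, ← h7, mul_inv_cancel]
  exact ⟨a, ζ, _, ν, hζ, h6, hν.symm⟩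

end Cfsg.Agent.BZ.TA.H0
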