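import Cfsg.Agent.BZ.L.TA.All

/-!
# BZ / L / TA : the end (helper91)

The theorems `boxTA`, `boxLie`, `boxLie0`, `boxLieP` are in `BZ/L/TA/All`.
-/
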