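import Cfsg.Agent.BZ.L.TA.K

/-!
# BZ / L / TA : the fundamental groups, `boxOm` (helper67)
-/

set_option autoImplicit false
set_option linter.unusedSectionVars false

namespace Cfsg.Agent.BZ.TA

open Matrix

namespace Om

variable {I : Type} [Fintype I] [DecidableEq I] {C : Matrix I I ℤ} {n : ℕ} {c : ℕ → ℕ → ℤ}

/-- the coroot lattice -/
def Rt (C : Matrix I I ℤ) : Submodule ℤ (I → ℤ) := LinearMap.range C.vecMulLinear

/-- the basis vectors, shifted by one -/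
def tv (e : Fin n ≃ I) (j : ℕ) : I → ℤ := fun a => if (e.symm a : ℕ) + 1 = j then 1 else 0

theorem tv_apply (e : Fin n ≃ I) (j : ℕ) (k : Fin n) : tv e j (e k) = if (k : ℕ) + 1 = j then 1 else 0 := by
  rw [tv, e.symm_apply_apply]

theorem tv_zero (e : Fin n ≃ I) : tv e 0 = 0 := funext fun _ => if_neg (Nat.succ_ne_zero _)

theorem tv_top (e : Fin n ≃ I) : tv e (n + 1) = 0 := funext fun a => if_neg (by have := (e.symm a).2; omega)

theorem span (e : Fin n ≃ I) (W : Submodule ℤ (I → ℤ)) (h : ∀ i : Fin n, tv e (i + 1) ∈ W) (v : I → ℤ) : v ∈ W := by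
  rw [pi_eq_sum_univ v]
  refine W.sum_mem fun a _ => W.smul_mem _ ?_
  convert h (e.symm a) using 1
  ext b
  simp only [tv, Nat.add_right_cancel_iff, Fin.val_inj, EmbeddingLike.apply_eq_iff_eq, eq_comm]

theorem mem_cert (e : Fin n ≃ I) (he : ∀ i j, C (e i) (e j) = c i j) (β : Fin n → ℤ) {u : I → ℤ}
    (h : ∀ j, u (e j) = ∑ k, β k * c k j) : u ∈ Rt C := ⟨β ∘ e.symm, funext fun a => by
  obtain ⟨j, rfl⟩ := e.surjective a
  rw [h, vecMulLinear_apply, vecMul, dotProduct, ← e.sum_comp]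
  simp [he]⟩

theorem ex_of (e : Fin n ≃ I) {m : ℤ} (h : ∀ i : Fin n, m • tv e (i + 1) ∈ Rt C) : Ex C m := fun v =>
  let ⟨β, hβ⟩ := span e ((Rt C).comap (LinearMap.lsmul ℤ _ m)) h v
  ⟨β, hβ.symm⟩

theorem g2_of (e : Fin n ≃ I) {μ μ' : I → ℤ} (h : ∀ i : Fin n, ∃ a b : ℤ, tv e (i + 1) - (a • μ + b • μ') ∈ Rt C) :
    G2 C μ μ' := fun v => by
  obtain ⟨_, h1, _, ⟨β, rfl⟩, h2⟩ := Submodule.mem_sup.1 (span e (Submodule.span ℤ {μ, μ'} ⊔ Rt C) (fun i => by
    obtain ⟨a, b, k⟩ := h i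
    exact Submodule.mem_sup.2 ⟨_, Submodule.mem_span_pair.2 ⟨a, b, rfl⟩, _, k, by abel⟩) v)
  obtain ⟨a, b, rfl⟩ := Submodule.mem_span_pair.1 h1
  exact ⟨a, b, β, h2.symm⟩

/-- a certificate for the exponent -/
theorem ex_cert (h : Ty C n c) {m : ℤ} (N : List (List ℤ))
    (hN : ∀ i j : Fin n, ∑ k : Fin n, (N.getD i []).getD k 0 * c k j = if j = i then m else 0) : Ex C m := by
  obtain ⟨e, he⟩ := h
  refine ex_of e fun i => mem_cert e he (fun k => (N.getD i []).getD k 0) fun j => ?_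
  rw [hN, Pi.smul_apply, tv_apply]
  simp [Fin.val_inj]

/-- a certificate for one generator -/
theorem g2_cert (h : Ty C n c) (g : ℕ) (a : List ℤ) (N : List (List ℤ))
    (hN : ∀ i j : Fin n, ∑ k : Fin n, (N.getD i []).getD k 0 * c k j = (if j = i then 1 else 0) -
      if (j : ℕ) = g then a.getD i 0 else 0) : ∃ μ, G2 C μ 0 := by
  obtain ⟨e, he⟩ := h
  refine ⟨tv e (g + 1), g2_of e fun i => ⟨a.getD i 0, 0, mem_cert e he (fun k => (N.getD i []).getD k 0) fun j => ?_⟩⟩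
  rw [hN]
  simp [tv_apply, Fin.val_inj]

/-- the classes of the basis vectors -/
def om (C : Matrix I I ℤ) (e : Fin n ≃ I) (j : ℕ) : (I → ℤ) ⧸ Rt C := (Rt C).mkQ (tv e j)

theorem om_zero (e : Fin n ≃ I) : om C e 0 = 0 := by rw [om, tv_zero, map_zero]

theorem om_top (e : Fin n ≃ I) : om C e (n + 1) = 0 := by rw [om, tv_top, map_zero]

theorem ex_om (e : Fin n ≃ I) {m : ℤ} (h : ∀ j ≤ n, m • om C e j = 0) : Ex C m :=
  ex_of e fun i => (Submodule.Quotient.mk_eq_zero _).1 (h (i + 1) i.2)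

theorem g2_om (e : Fin n ≃ I) (a b : ℕ) (h : ∀ j ≤ n, ∃ x y : ℤ, om C e j = x • om C e a + y • om C e b) :
    G2 C (tv e a) (tv e b) := g2_of e fun i =>
  let ⟨x, y, k⟩ := h (i + 1) i.2
  ⟨x, y, (Submodule.Quotient.eq _).1 k⟩

theorem row (e : Fin n ≃ I) (he : ∀ i j, C (e i) (e j) = c i j) {i : ℕ} (hi : i < n) (a : ℤ) (j₁ j₂ j₃ : ℕ)
    (h : ∀ k < n, c i k = (if k = i then 2 else 0) - ((if k + 1 = j₁ then a else 0) + (if k + 1 = j₂ then 1 else 0) +
      if k + 1 = j₃ then 1 else 0)) : (2 : ℤ) • om C e (i + 1) = a • om C e j₁ + om C e j₂ + om C e j₃ := by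
  refine (Submodule.Quotient.eq _).2 (mem_cert e he (Pi.single ⟨i, hi⟩ 1) fun j => ?_)
  rw [Finset.sum_eq_single ⟨i, hi⟩ (fun k _ hk => by simp [hk]) (by simp), Pi.single_eq_same, one_mul, h j j.2]
  simp [tv_apply]

theorem path {A : Type} [AddCommGroup A] {w : ℕ → A} (h0 : w 0 = 0) {m : ℕ}
    (h : ∀ i < m, (2 : ℤ) • w (i + 1) = (1 : ℤ) • w (i + 2) + w i + w 0) : ∀ j ≤ m + 1, w j = (j : ℤ) • w 1 := by
  have k : ∀ j ≤ m, w j = (j : ℤ) • w 1 ∧ w (j + 1) = ((j : ℤ) + 1) • w 1 := fun j => by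
    induction j with
    | zero => exact fun _ => ⟨by simp [h0], by simp⟩
    | succ j ih =>
      intro hj
      obtain ⟨h1, h2⟩ := ih (by omega)
      have h3 := h j (by omega)
      rw [h0, h1, h2] at h3
      push_cast
      exact ⟨h2, by linear_combination (norm := module) -h3⟩
  intro j hj
  rcases j with _ | j
  · simp [h0]
  · exact_mod_cast (k j (by omega)).2

theorem tA (h : Ty C n cA) : Ex C (n + 1) ∧ ∃ μ, G2 C μ 0 := by
  obtain ⟨e, he⟩ := h
  have h1 := path (om_zero (C := C) e) (m := n) fun i hi => row e he hi 1 _ _ _ fun k hk => by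
    unfold cA
    split_ifs <;> first | omega | contradiction
  have h2 := h1 (n + 1) le_rfl
  rw [om_top] at h2
  refine ⟨ex_om e fun j hj => ?_, tv e 1, tv_zero e ▸ g2_om e 1 0 fun j hj => ⟨j, 0, ?_⟩⟩
  · rw [h1 j (by omega), smul_comm, ← Nat.cast_succ, ← h2, smul_zero]
  · rw [h1 j (by omega), zero_smul, add_zero]

theorem tB (hn : 2 ≤ n) (h : Ty C n (cB n)) : Ex C 2 := by
  obtain ⟨e, he⟩ := h
  obtain ⟨m, rfl⟩ := Nat.exists_eq_add_of_le' hn
  have h1 := path (om_zero (C := C) e) (m := m + 1) fun i hi => row e he (by omega) 1 _ _ _ fun k hk => by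
    unfold cB cA
    split_ifs <;> first | omega | contradiction
  have h2 := row e he (i := m + 1) (by omega) 2 (m + 1) 0 0 fun k hk => by
    unfold cB cA
    split_ifs <;> first | omega | contradiction
  rw [om_zero, h1 (m + 1 + 1) le_rfl, h1 (m + 1) (by omega)] at h2
  push_cast at h2
  refine ex_om e fun j hj => ?_
  rw [h1 j hj]
  linear_combination (norm := module) (j : ℤ) • h2

theorem tC (hn : 2 ≤ n) (h : Ty C n (cC n)) : Ex C 2 := by
  obtain ⟨e, he⟩ := h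
  obtain ⟨m, rfl⟩ := Nat.exists_eq_add_of_le' hn
  have h1 := path (om_zero (C := C) e) (m := m) fun i hi => row e he (by omega) 1 _ _ _ fun k hk => by
    unfold cC cB cA
    split_ifs <;> first | omega | contradiction
  have h2 := row e he (i := m) (by omega) 2 (m + 2) m 0 fun k hk => by
    unfold cC cB cA
    split_ifs <;> first | omega | contradiction
  have h3 := row e he (i := m + 1) (by omega) 1 (m + 1) 0 0 fun k hk => by
    unfold cC cB cA
    split_ifs <;> first | omega | contradiction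
  rw [om_zero, h1 (m + 1) le_rfl] at h2 h3
  rw [h1 m (by omega)] at h2
  push_cast at h2 h3
  change (2 : ℤ) • om C e (m + 2) = _ at h3
  have h4 : om C e 1 = 0 := by linear_combination (norm := module) h2 + h3
  refine ex_om e fun j hj => ?_
  rcases Nat.lt_or_eq_of_le hj with k | rfl
  · rw [h1 j (by omega), h4, smul_zero, smul_zero]
  · rw [h3, h4]
    simp

theorem tD (hn : 4 ≤ n) (h : Ty C n (cT (n - 3) n)) :
    Ex C 4 ∧ (Odd n → ∃ μ, G2 C μ 0) ∧ (Even n → Ex C 2 ∧ ∃ μ μ', G2 C μ μ') := by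
  obtain ⟨e, he⟩ := h
  obtain ⟨m, rfl⟩ := Nat.exists_eq_add_of_le' hn
  have h1 := path (om_zero (C := C) e) (m := m + 1) fun i hi => row e he (by omega) 1 _ _ _ fun k hk => by
    unfold cT
    split_ifs <;> first | omega | contradiction
  have h2 := row e he (i := m + 1) (by omega) 1 (m + 3) (m + 1) (m + 4) fun k hk => by
    unfold cT
    split_ifs <;> omega
  have h3 := row e he (i := m + 2) (by omega) 1 (m + 2) 0 0 fun k hk => by
    unfold cT
    split_ifs <;> first | omega | contradiction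
  have h4 := row e he (i := m + 3) (by omega) 1 (m + 2) 0 0 fun k hk => by
    unfold cT
    split_ifs <;> first | omega | contradiction
  rw [om_zero, h1 (m + 2) le_rfl] at h3 h4
  rw [h1 (m + 1 + 1) le_rfl, h1 (m + 1) (by omega)] at h2
  push_cast at h2 h3 h4
  change (2 : ℤ) • om C e (m + 3) = _ at h3
  change (2 : ℤ) • om C e (m + 4) = _ at h4
  have h5 : (2 : ℤ) • om C e 1 = 0 := by linear_combination (norm := module) (2 : ℤ) • h2 + h3 + h4
  have h6 : om C e (m + 3) = ((m : ℤ) + 3) • om C e 1 - om C e (m + 4) := by linear_combination (norm := module) -h2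
  have h7 : ∀ {P : ℕ → Prop}, (∀ j ≤ m + 2, P j) → P (m + 3) → P (m + 4) → ∀ j ≤ m + 4, P j := fun a b c j hj => by
    obtain k | rfl | rfl : j ≤ m + 2 ∨ j = m + 3 ∨ j = m + 4 := by omega
    exacts [a j k, b, c]
  refine ⟨ex_om e (h7 (fun j hj => ?_) ?_ ?_), fun ⟨t, ht⟩ => ⟨tv e (m + 4), tv_zero e ▸ g2_om e (m + 4) 0 ?_⟩,
    fun ⟨t, ht⟩ => ⟨ex_om e (h7 (fun j hj => ?_) ?_ ?_), _, _, g2_om e 1 (m + 4)
      (h7 (fun j hj => ⟨j, 0, by simp [h1 j hj]⟩) ⟨m + 3, -1, by rw [h6]; module⟩ ⟨0, 1, by simp⟩)⟩⟩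
  · rw [h1 j hj]
    linear_combination (norm := module) (2 * j : ℤ) • h5
  · linear_combination (norm := module) (2 : ℤ) • h3 + ((m : ℤ) + 2) • h5
  · linear_combination (norm := module) (2 : ℤ) • h4 + ((m : ℤ) + 2) • h5
  · have k1 : (m : ℤ) = 2 * t - 3 := by omega
    rw [k1] at h4 h6
    have k2 : om C e 1 = (2 : ℤ) • om C e (m + 4) := by linear_combination (norm := module) -h4 - ((t : ℤ) - 1) • h5
    exact h7 (fun j hj => ⟨2 * j, 0, by rw [h1 j hj, k2]; module⟩) ⟨4 * t - 1, 0, by rw [h6, k2]; module⟩ ⟨1, 0, by simp⟩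
  · rw [h1 j hj]
    linear_combination (norm := module) (j : ℤ) • h5
  · have k1 : (m : ℤ) = 2 * t - 4 := by omega
    rw [k1] at h3
    linear_combination (norm := module) h3 + ((t : ℤ) - 1) • h5
  · have k1 : (m : ℤ) = 2 * t - 4 := by omega
    rw [k1] at h4
    linear_combination (norm := module) h4 + ((t : ℤ) - 1) • h5

end Om

open Om in
/-- **the fundamental groups** -/
theorem boxOm : BoxOm where
  a _ _ h := tA h
  b _ _ hn h := h.elim (tB hn) (tC hn)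
  d _ _ hn h := tD hn h
  e6 _ h := ⟨ex_cert h [[4, 5, 6, 4, 2, 3], [5, 10, 12, 8, 4, 6], [6, 12, 18, 12, 6, 9], [4, 8, 12, 10, 5, 6], [2, 4, 6, 5, 4, 3],
      [3, 6, 9, 6, 3, 6]] (by decide +kernel),
    g2_cert h 0 [1, 2, 0, 1, 2, 0] [[0, 0, 0, 0, 0, 0], [-1, 0, 0, 0, 0, 0], [2, 4, 6, 4, 2, 3], [0, 1, 2, 2, 1, 1],
      [-2, -2, -2, -1, 0, -1], [1, 2, 3, 2, 1, 2]] (by decide +kernel)⟩
  e7 _ h := ⟨ex_cert h [[4, 6, 8, 6, 4, 2, 4], [6, 12, 16, 12, 8, 4, 8], [8, 16, 24, 18, 12, 6, 12], [6, 12, 18, 15, 10, 5, 9],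
      [4, 8, 12, 10, 8, 4, 6], [2, 4, 6, 5, 4, 3, 3], [4, 8, 12, 9, 6, 3, 7]] (by decide +kernel),
    g2_cert h 3 [0, 0, 0, 1, 0, 1, 1] [[2, 3, 4, 3, 2, 1, 2], [3, 6, 8, 6, 4, 2, 4], [4, 8, 12, 9, 6, 3, 6], [0, 0, 0, 0, 0, 0, 0],
      [2, 4, 6, 5, 4, 2, 3], [-2, -4, -6, -5, -3, -1, -3], [-1, -2, -3, -3, -2, -1, -1]] (by decide +kernel)⟩

end Cfsg.Agent.BZ.TA
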